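import Cfsg.Agent.Lib.TwoPRegSizes.Several
import Cfsg.Agent.Lib.Kazarin.Main
import Cfsg.Agent.Lib.Coprime.Basic

/-!
# No prime besides `p` divides the class size (namespace `Cfsg.Agent.TwoPRegSizes`)

* `exists_preimage_cz`: centralizers of `p'`-elements modulo a normal `p`-subgroup
* `quotient_setup`: the setup passes to the quotient by a normal `p`-subgroup
* `fact_eq_zero`: only `p` divides the common class size
-/

set_option autoImplicit false
set_option linter.unusedSectionVars false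

open scoped Pointwise commutatorElement

namespace Cfsg.Agent.TwoPRegSizes

open Subgroup

universe u

variable {G : Type u} [Group G] [Finite G] {p : ℕ}

/-- Modulo a normal `p`-subgroup centralizers of `p'`-elements are images. -/
theorem exists_preimage_cz (hp : p.Prime) {M : Subgroup G} [M.Normal] (hM : IsPGroup p M) {x g : G}
    (hx : (orderOf x).Coprime p) (hg : (g : G ⧸ M) ∈ cz (x : G ⧸ M)) :
    ∃ c ∈ cz x, (c : G ⧸ M) = g := by
  haveI := Fact.mk hp
  have hMN : zpowers x ≤ Subgroup.normalizer (M : Set G) := by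
    rw [Subgroup.normalizer_eq_top]; exact le_top
  obtain ⟨e, he⟩ := IsPGroup.iff_card.1 hM
  have hcop : (Nat.card (zpowers x)).Coprime (Nat.card M) := by
    rw [Nat.card_zpowers, he]; exact hx.pow_right e
  have hgx : x⁻¹ * (g * x * g⁻¹) ∈ M := by
    rw [← QuotientGroup.eq, QuotientGroup.mk_mul, QuotientGroup.mk_mul, QuotientGroup.mk_inv,
      mem_cz.1 hg, mul_inv_cancel_right]
  have hL : (MulAut.conj g • zpowers x : Subgroup G) ≤ M ⊔ zpowers x := by
    intro y hy
    rw [Coprime.mem_conj] at hy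
    obtain ⟨k, hk⟩ := Subgroup.mem_zpowers_iff.1 hy
    have h1 : g * x * g⁻¹ ∈ M ⊔ zpowers x := by
      rw [show g * x * g⁻¹ = x * (x⁻¹ * (g * x * g⁻¹)) by group]
      exact mul_mem (mem_sup_right (mem_zpowers x)) (mem_sup_left hgx)
    rw [show y = g * x ^ k * g⁻¹ by rw [hk]; group, ← conj_zpow]
    exact zpow_mem h1 k
  obtain ⟨n, hn, hnx⟩ := Coprime.exists_conj_eq_of_le_sup hMN hcop
    (Or.inr (haveI := hM.isNilpotent; inferInstance)) hL (Coprime.card_conj g _)
  refine ⟨n⁻¹ * g, ?_, ?_⟩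
  · have h1 : (n⁻¹ * g) * x * (n⁻¹ * g)⁻¹ ∈ zpowers x := by
      have : g * x * g⁻¹ ∈ (MulAut.conj n • zpowers x : Subgroup G) := by
        rw [hnx]; exact Coprime.conj_mem_conj.2 (mem_zpowers x)
      rw [Coprime.mem_conj] at this
      rwa [show (n⁻¹ * g) * x * (n⁻¹ * g)⁻¹ = n⁻¹ * (g * x * g⁻¹) * n by group]
    have h2 : x⁻¹ * ((n⁻¹ * g) * x * (n⁻¹ * g)⁻¹) ∈ M := by
      rw [← QuotientGroup.eq, show (n⁻¹ * g) * x * (n⁻¹ * g)⁻¹ = n⁻¹ * (g * x * g⁻¹) * n by group,
        QuotientGroup.mk_mul, QuotientGroup.mk_mul, QuotientGroup.mk_inv,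
        (QuotientGroup.eq_one_iff n).2 hn, inv_one, one_mul, mul_one]
      exact QuotientGroup.eq.2 hgx
    have h3 := Coprime.eq_one_of_mem_of_mem hcop (mul_mem (inv_mem (mem_zpowers x)) h1) h2
    rw [inv_mul_eq_one, eq_mul_inv_iff_mul_eq] at h3
    exact mem_cz.2 h3.symm
  · rw [QuotientGroup.mk_mul, QuotientGroup.mk_inv, (QuotientGroup.eq_one_iff n).2 hn, inv_one, one_mul]

/-- `p'`-elements lift to `p'`-elements, inside any subgroup containing a preimage. -/
theorem exists_lift_pReg (hp : p.Prime) {M : Subgroup G} [M.Normal] {g : G}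
    (hg : (orderOf (g : G ⧸ M)).Coprime p) :
    ∃ y ∈ zpowers g, (orderOf y).Coprime p ∧ (y : G ⧸ M) = g := by
  haveI := Fact.mk hp
  obtain ⟨a, b, hab, ha, hb, ⟨k, hk⟩, hbp⟩ := Transfer.exists_pPart_mul (p := p) g
  refine ⟨b, hb, hbp, ?_⟩
  obtain ⟨i, hi⟩ := Subgroup.mem_zpowers_iff.1 ha
  have h1 : orderOf (a : G ⧸ M) ∣ orderOf (g : G ⧸ M) := by
    rw [orderOf_dvd_iff_pow_eq_one, ← hi, QuotientGroup.mk_zpow, ← zpow_natCast, ← zpow_mul,
      mul_comm, zpow_mul, zpow_natCast, pow_orderOf_eq_one, one_zpow]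
  have h2 : orderOf (a : G ⧸ M) ∣ p ^ k := hk ▸ orderOf_map_dvd (QuotientGroup.mk' M) a
  have h3 : (a : G ⧸ M) = 1 :=
    orderOf_eq_one_iff.1 (Nat.eq_one_of_dvd_coprimes (hg.pow_right k) h1 h2)
  rw [hab, QuotientGroup.mk_mul, h3, one_mul]

/-- `|G : C| = |G : M C| |M : M ∩ C|` for normal `M`. -/
theorem index_sup_mul_relIndex (M C : Subgroup G) [M.Normal] :
    (M ⊔ C).index * C.relIndex M = C.index := by
  have h : C.relIndex M = C.relIndex (M ⊔ C) := by
    have h1 := Subgroup.relIndex_mul_relIndex (⊥ : Subgroup G) (C ⊓ M) M bot_le inf_le_right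
    have h2 := Subgroup.relIndex_mul_relIndex (⊥ : Subgroup G) (C ⊓ M) C bot_le inf_le_left
    have h3 := Subgroup.relIndex_mul_relIndex (⊥ : Subgroup G) M (M ⊔ C) bot_le le_sup_left
    have h4 := Subgroup.relIndex_mul_relIndex (⊥ : Subgroup G) C (M ⊔ C) bot_le le_sup_right
    rw [Subgroup.inf_relIndex_right] at h1
    rw [Subgroup.inf_relIndex_left] at h2
    rw [Subgroup.relIndex_sup_left] at h3
    rw [← h1, ← h4, ← h2] at h3
    have hpos : (⊥ : Subgroup G).relIndex (C ⊓ M) * M.relIndex C ≠ 0 := by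
      rw [h2, Subgroup.relIndex_bot_left]; exact Nat.card_pos.ne'
    refine Nat.eq_of_mul_eq_mul_left (Nat.pos_of_ne_zero hpos) ?_
    rw [← h3]; ring
  rw [h, mul_comm]
  exact Subgroup.relIndex_mul_index le_sup_right

namespace Setup

/-- Non-central `p'`-elements stay non-central modulo `p`, if a prime `≠ p` divides the class size. -/
theorem quotient_noncentral (H : Setup p G) {M : Subgroup G} [M.Normal] (hM : IsPGroup p M)
    {s : ℕ} (hs : s.Prime) (hsp : s ≠ p) {x : G} (hx : x ∉ center G) (hxp : (orderOf x).Coprime p)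
    (hv : (cz x).index.factorization s ≠ 0) : (x : G ⧸ M) ∉ center (G ⧸ M) := by
  intro hc
  haveI := Fact.mk H.hp
  apply hv
  obtain ⟨e, he⟩ := IsPGroup.iff_card.1 hM
  have htop : M ⊔ cz x = ⊤ := by
    rw [eq_top_iff]
    intro g _
    obtain ⟨c, hc', hcg⟩ := exists_preimage_cz H.hp hM hxp (mem_cz.2 (Subgroup.mem_center_iff.1 hc g))
    rw [show g = c * (c⁻¹ * g) by group]
    exact mul_mem (mem_sup_right hc') (mem_sup_left (QuotientGroup.eq.1 hcg))
  have h1 : (cz x).index ∣ p ^ e := by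
    rw [← index_sup_mul_relIndex M (cz x), htop, Subgroup.index_top, one_mul, ← he]
    exact Subgroup.relIndex_dvd_card _ _
  refine Nat.factorization_eq_zero_of_not_dvd fun h => hsp ?_
  exact (Nat.prime_dvd_prime_iff_eq hs H.hp).1 (hs.dvd_of_dvd_pow (h.trans h1))

/-- The index of the centralizer modulo a normal `p`-subgroup. -/
theorem quotient_fact (H : Setup p G) {M : Subgroup G} [M.Normal] (hM : IsPGroup p M) {x : G}
    (hxp : (orderOf x).Coprime p) {w : ℕ} (hw : w.Prime) (hwp : w ≠ p) :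
    (cz (x : G ⧸ M)).index.factorization w = (cz x).index.factorization w := by
  haveI := Fact.mk H.hp
  obtain ⟨e, he⟩ := IsPGroup.iff_card.1 hM
  have hcomap : (cz (x : G ⧸ M)).comap (QuotientGroup.mk' M) = M ⊔ cz x := by
    refine le_antisymm (fun g hg => ?_) (sup_le (fun g hg => ?_) (fun g hg => ?_))
    · obtain ⟨c, hc, hcg⟩ := exists_preimage_cz H.hp hM hxp (Subgroup.mem_comap.1 hg)
      rw [show g = c * (c⁻¹ * g) by group]
      exact mul_mem (mem_sup_right hc) (mem_sup_left (QuotientGroup.eq.1 hcg))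
    · rw [Subgroup.mem_comap, QuotientGroup.mk'_apply, (QuotientGroup.eq_one_iff g).2 hg]
      exact one_mem _
    · rw [Subgroup.mem_comap, mem_cz, QuotientGroup.mk'_apply, ← QuotientGroup.mk_mul, mem_cz.1 hg,
        QuotientGroup.mk_mul]
  have h1 : (cz (x : G ⧸ M)).index * (cz x).relIndex M = (cz x).index := by
    rw [← Subgroup.index_comap_of_surjective (cz (x : G ⧸ M)) (QuotientGroup.mk'_surjective M),
      hcomap]
    exact index_sup_mul_relIndex M (cz x)
  have h2 : (cz x).relIndex M ∣ p ^ e := he ▸ Subgroup.relIndex_dvd_card _ _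
  obtain ⟨i, -, hi⟩ := (Nat.dvd_prime_pow H.hp).1 h2
  rw [← h1, hi, Nat.factorization_mul (Subgroup.index_ne_zero_of_finite) (pow_ne_zero _ H.hp.ne_zero),
    Finsupp.add_apply, H.hp.factorization_pow, Finsupp.single_eq_of_ne hwp, add_zero]

/-- The setup passes to the quotient by a normal `p`-subgroup. -/
theorem quotient_setup (H : Setup p G) {M : Subgroup G} [M.Normal] (hM : IsPGroup p M) {s : ℕ}
    (hs : s.Prime) (hsp : s ≠ p) {x₀ : G} (hx₀ : x₀ ∉ center G) (hx₀p : (orderOf x₀).Coprime p)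
    (hv : (cz x₀).index.factorization s ≠ 0) : Setup p (G ⧸ M) := by
  have hnc : ∀ x : G, (x : G ⧸ M) ∉ center (G ⧸ M) → x ∉ center G := fun x hx hxc => hx
    (Subgroup.mem_center_iff.2 fun q => by
      obtain ⟨g, rfl⟩ := QuotientGroup.mk_surjective q
      rw [← QuotientGroup.mk_mul, Subgroup.mem_center_iff.1 hxc g, QuotientGroup.mk_mul])
  refine ⟨H.hp, ?_, ?_, ?_⟩
  · intro X Y Q hX hXp hYp hYX hQX
    obtain ⟨x', rfl⟩ := QuotientGroup.mk_surjective X
    obtain ⟨x, -, hxp, hxx⟩ := exists_lift_pReg H.hp hXp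
    rw [← hxx] at hX hYX hQX
    obtain ⟨y', rfl⟩ := QuotientGroup.mk_surjective Y
    obtain ⟨q', rfl⟩ := QuotientGroup.mk_surjective Q
    obtain ⟨c, hc, hcy⟩ := exists_preimage_cz H.hp hM hxp hYX
    obtain ⟨q, hq, hqq⟩ := exists_preimage_cz H.hp hM hxp hQX
    rw [← hcy] at hYp ⊢
    obtain ⟨y, hy, hyp, hyc⟩ := exists_lift_pReg H.hp hYp
    rw [← hqq, ← hyc, ← QuotientGroup.mk_mul, ← QuotientGroup.mk_mul]
    exact congrArg _ (H.cent x y q (hnc x hX) hxp hyp
      ((Subgroup.zpowers_le.2 hc) hy) hq)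
  · intro X Y hX hXp hY hYp w hw hwp
    obtain ⟨x', rfl⟩ := QuotientGroup.mk_surjective X
    obtain ⟨x, -, hxp, hxx⟩ := exists_lift_pReg H.hp hXp
    obtain ⟨y', rfl⟩ := QuotientGroup.mk_surjective Y
    obtain ⟨y, -, hyp, hyy⟩ := exists_lift_pReg H.hp hYp
    rw [← hxx] at hX ⊢
    rw [← hyy] at hY ⊢
    rw [H.quotient_fact hM hxp hw hwp, H.quotient_fact hM hyp hw hwp]
    exact H.idx x y (hnc x hX) hxp (hnc y hY) hyp w hw hwp
  · obtain ⟨q, r, a, b, x, y, hq, hr, hqp, hrp, hqr, hx, hy, hxZ, hyZ⟩ := H.two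
    haveI := Fact.mk H.hp
    have hxp := coprime_of_primePow hq H.hp hqp hx
    have hyp := coprime_of_primePow hr H.hp hrp hy
    obtain ⟨a', -, ha'⟩ := (Nat.dvd_prime_pow hq).1
      (hx ▸ orderOf_map_dvd (QuotientGroup.mk' M) x)
    obtain ⟨b', -, hb'⟩ := (Nat.dvd_prime_pow hr).1
      (hy ▸ orderOf_map_dvd (QuotientGroup.mk' M) y)
    exact ⟨q, r, a', b', _, _, hq, hr, hqp, hrp, hqr, ha', hb',
      H.quotient_noncentral hM hs hsp hxZ hxp (by rwa [H.idx x x₀ hxZ hxp hx₀ hx₀p s hs hsp]),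
      H.quotient_noncentral hM hs hsp hyZ hyp (by rwa [H.idx y x₀ hyZ hyp hx₀ hx₀p s hs hsp])⟩

/-- With `O_p(G) = 1`, also `O_p(G/Z(G)) = 1`. -/
theorem pCore_quotient_center (H : Setup p G) (hO : Cfsg.pCore p G = ⊥) :
    Cfsg.pCore p (G ⧸ center G) = ⊥ := by
  haveI := Fact.mk H.hp
  set D := (Cfsg.pCore p (G ⧸ center G)).comap (QuotientGroup.mk' (center G)) with hD
  haveI : (Cfsg.pCore p (G ⧸ center G)).Normal := Cores.pCore_normal p _
  haveI hDn : D.Normal := (inferInstance : (Cfsg.pCore p (G ⧸ center G)).Normal).comap _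
  have hpow : ∀ d : D, ∃ k, (d : G) ^ p ^ k ∈ center G := by
    intro d
    obtain ⟨k, hk⟩ := (Cores.isPGroup_pCore p (G ⧸ center G)) ⟨(d : G), d.2⟩
    exact ⟨k, (QuotientGroup.eq_one_iff _).1 (congrArg Subtype.val hk)⟩
  -- `D` is nilpotent, so its Sylow `p`-subgroup is normal in `G`
  haveI : Group.IsNilpotent D := by
    have hp : IsPGroup p (D ⧸ center D) := by
      intro q
      obtain ⟨d, rfl⟩ := QuotientGroup.mk_surjective q
      obtain ⟨k, hk⟩ := hpow d
      refine ⟨k, ?_⟩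
      rw [← QuotientGroup.mk_pow, QuotientGroup.eq_one_iff, Subgroup.mem_center_iff]
      exact fun g => Subtype.ext (Subgroup.mem_center_iff.1 hk (g : G))
    exact Group.of_quotient_center_nilpotent hp.isNilpotent
  obtain ⟨P⟩ : Nonempty (Sylow p D) := inferInstance
  have hPn : (P : Subgroup D).Normal :=
    Sylow.normal_of_normalizerCondition Group.normalizerCondition_of_isNilpotent P
  haveI : (P : Subgroup D).Characteristic := Sylow.characteristic_of_normal P hPn
  haveI : ((P : Subgroup D).map D.subtype).Normal := ConjAct.normal_of_characteristic_of_normal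
  have hP1 : (P : Subgroup D) = ⊥ := by
    have := Cores.le_pCore (p := p) (N := (P : Subgroup D).map D.subtype) inferInstance (P.isPGroup'.map _)
    rwa [hO, le_bot_iff, Subgroup.map_eq_bot_iff_of_injective _ D.subtype_injective] at this
  rw [eq_bot_iff]
  intro q hq
  obtain ⟨d, rfl⟩ := QuotientGroup.mk'_surjective (center G) q
  obtain ⟨k, hk⟩ := (Cores.isPGroup_pCore p (G ⧸ center G)) ⟨_, hq⟩
  have hk' : orderOf (QuotientGroup.mk' (center G) d) ∣ p ^ k :=
    orderOf_dvd_of_pow_eq_one (congrArg Subtype.val hk)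
  have hnd : ¬ p ∣ orderOf (⟨d, hq⟩ : D) := fun h => by
    have := P.not_dvd_index
    rw [hP1, Subgroup.index_bot] at this
    exact this (h.trans (orderOf_dvd_natCard _))
  have hdd : orderOf (QuotientGroup.mk' (center G) d) ∣ orderOf (⟨d, hq⟩ : D) :=
    (orderOf_map_dvd _ _).trans (dvd_of_eq (Subgroup.orderOf_mk d hq).symm)
  rw [Subgroup.mem_bot, ← orderOf_eq_one_iff]
  exact Nat.eq_one_of_dvd_coprimes ((H.hp.coprime_iff_not_dvd.2 hnd).pow_left k) hk' hdd

/-- One prime `s ≠ p` dividing the class size is impossible when `O_p(G) = 1`. -/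
theorem false_of_single (H : Setup p G) (hO : Cfsg.pCore p G = ⊥) {s : ℕ} (hs : s.Prime) (hsp : s ≠ p)
    {x₀ : G} (hx₀ : x₀ ∉ center G) (hx₀p : (orderOf x₀).Coprime p)
    (hv₀ : (cz x₀).index.factorization s ≠ 0) : False := by
  haveI := Fact.mk hs
  have huniq : ∀ x : G, x ∉ center G → (orderOf x).Coprime p → ∀ w : ℕ, w.Prime → w ≠ p → w ≠ s →
      (cz x).index.factorization w = 0 := by
    intro x hx hxp w hw hwp hws
    by_contra h
    exact hws (H.unique_prime hx hxp hw hwp hs hsp h (by rwa [H.idx x x₀ hx hxp hx₀ hx₀p s hs hsp]))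
  obtain ⟨S⟩ : Nonempty (Sylow s G) := inferInstance
  obtain ⟨z, hzS, hzZ, -, hzc⟩ := H.exists_central_mod hs hsp hx₀ hx₀p hv₀ S
  obtain ⟨k, hk⟩ := IsPGroup.iff_orderOf.1 S.isPGroup' ⟨z, hzS⟩
  rw [← Subgroup.orderOf_coe] at hk
  simp only at hk
  have hzp := coprime_of_primePow hs H.hp hsp hk
  -- the class of `z` modulo the centre has `p`-power size
  set π := QuotientGroup.mk' (center G) with hπ
  have hidx : ∃ e, (cz (π z)).index = p ^ e := by
    refine ⟨_, Nat.eq_prime_pow_of_unique_prime_dvd Subgroup.index_ne_zero_of_finite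
      fun {d} hd hdvd => ?_⟩
    · by_contra hdp
      have hcomap : ((cz (π z)).comap π).index = (cz (π z)).index :=
        Subgroup.index_comap_of_surjective _ (QuotientGroup.mk'_surjective _)
      by_cases hds : d = s
      · have hSle : (S : Subgroup G) ≤ (cz (π z)).comap π := by
          intro g hg
          rw [Subgroup.mem_comap, mem_cz, hπ, ← map_mul, ← map_mul, QuotientGroup.mk'_apply,
            QuotientGroup.mk'_apply, QuotientGroup.eq]
          have h1 := (inferInstance : (center G).Normal).conj_mem _ (inv_mem (hzc g hg)) (g * z)⁻¹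
          convert h1 using 1
          group
        exact S.not_dvd_index ((dvd_of_eq hds.symm).trans (hdvd.trans (hcomap ▸ Subgroup.index_dvd_of_le hSle)))
      · have hCle : cz z ≤ (cz (π z)).comap π := by
          intro g hg
          rw [Subgroup.mem_comap, mem_cz, ← map_mul, ← map_mul, mem_cz.1 hg]
        have h2 := hdvd.trans (hcomap ▸ Subgroup.index_dvd_of_le hCle)
        have h3 := huniq z hzZ hzp d hd hdp hds
        exact (hd.factorization_pos_of_dvd Subgroup.index_ne_zero_of_finite h2).ne' h3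
  obtain ⟨e, he⟩ := hidx
  -- so its conjugates commute modulo the centre
  have hcomm : ∀ g h : G, ⁅g * z * g⁻¹, h * z * h⁻¹⁆ ∈ center G := by
    intro g h
    have h1 := Kazarin.commutator_mem_pCore H.hp he (π g) (π h)
    rw [H.pCore_quotient_center hO, Subgroup.mem_bot] at h1
    rw [← QuotientGroup.eq_one_iff, ← h1]
    show π _ = _
    rw [map_commutatorElement, map_mul, map_mul, map_mul, map_mul, map_inv, map_inv]
  set X := Subgroup.closure {c : G | ∃ g, c = g * z * g⁻¹} with hX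
  have hXs : IsPGroup s X := by
    haveI : Group.IsNilpotent X := by
      haveI : Group.IsNilpotent (X ⧸ center X) := by
        refine @CommGroup.isNilpotent _ { (inferInstance : Group (X ⧸ center X)) with mul_comm := ?_ }
        intro a b
        obtain ⟨a, rfl⟩ := QuotientGroup.mk_surjective a
        obtain ⟨b, rfl⟩ := QuotientGroup.mk_surjective b
        have key : X.map π ≤ centralizer (X.map π : Set (G ⧸ center G)) := by
          rw [hX, MonoidHom.map_closure, Subgroup.centralizer_closure, Subgroup.closure_le]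
          rintro _ ⟨_, ⟨g, rfl⟩, rfl⟩ _ ⟨_, ⟨h, rfl⟩, rfl⟩
          have h1 : π ⁅h * z * h⁻¹, g * z * g⁻¹⁆ = 1 := (QuotientGroup.eq_one_iff _).2 (hcomm h g)
          rw [map_commutatorElement, commutatorElement_eq_one_iff_mul_comm] at h1
          exact h1
        rw [← QuotientGroup.mk_mul, ← QuotientGroup.mk_mul, QuotientGroup.eq, Subgroup.mem_center_iff]
        intro c
        have h1 : π (((a * b)⁻¹ * (b * a) : X) : G) = 1 := by
          rw [Subgroup.coe_mul, Subgroup.coe_inv, Subgroup.coe_mul, Subgroup.coe_mul, map_mul, map_inv,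
            map_mul, map_mul, key ⟨a, a.2, rfl⟩ _ ⟨b, b.2, rfl⟩]
          exact inv_mul_cancel _
        exact Subtype.ext (Subgroup.mem_center_iff.1 ((QuotientGroup.eq_one_iff _).1 h1) (c : G))
      exact Group.of_quotient_center_nilpotent inferInstance
    obtain ⟨T⟩ : Nonempty (Sylow s X) := inferInstance
    haveI : (T : Subgroup X).Normal :=
      Sylow.normal_of_normalizerCondition Group.normalizerCondition_of_isNilpotent T
    have hTtop : (T : Subgroup X) = ⊤ := by
      refine Subgroup.eq_top_iff' _ |>.2 fun u => ?_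
      obtain ⟨u, hu⟩ := u
      suffices h : X ≤ (T : Subgroup X).map X.subtype by
        obtain ⟨v, hv, hvu⟩ := h hu
        rwa [show (⟨u, hu⟩ : X) = v from Subtype.ext hvu.symm]
      refine (Subgroup.closure_le _).2 ?_
      rintro c ⟨g, rfl⟩
      have hc : g * z * g⁻¹ ∈ X := Subgroup.subset_closure ⟨g, rfl⟩
      have hpz : IsPGroup s ↥(zpowers (⟨_, hc⟩ : X)) := IsPGroup.of_card (n := k) (by
        rw [Nat.card_zpowers, Subgroup.orderOf_mk, ← hk]
        exact orderOf_injective (MulAut.conj g).toMonoidHom (MulEquiv.injective _) z)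
      obtain ⟨T', hT'⟩ := IsPGroup.exists_le_sylow hpz
      haveI := Sylow.unique_of_normal T (inferInstance : (T : Subgroup X).Normal)
      rw [Subsingleton.elim T' T] at hT'
      exact ⟨⟨_, hc⟩, hT' (mem_zpowers _), rfl⟩
    intro u
    obtain ⟨i, hi⟩ := T.isPGroup' ⟨u, hTtop ▸ Subgroup.mem_top u⟩
    exact ⟨i, congrArg Subtype.val hi⟩
  set L := cz z with hL
  -- another prime `w`
  obtain ⟨w, a, y, hw, hwp, hws, hy, hyZ⟩ : ∃ (w a : ℕ) (y : G), w.Prime ∧ w ≠ p ∧ w ≠ s ∧
      orderOf y = w ^ a ∧ y ∉ center G := by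
    obtain ⟨q, r, a, b, x, y, hq, hr, hqp, hrp, hqr, hx, hy, hxZ, hyZ⟩ := H.two
    by_cases hqs : q = s
    · exact ⟨r, b, y, hr, hrp, fun h => hqr (hqs.trans h.symm), hy, hyZ⟩
    · exact ⟨q, a, x, hq, hqp, hqs, hx, hxZ⟩
  obtain ⟨b, y', hy'L, hy', hy'Z⟩ := H.exists_noncentral_in hzZ hzp hw hwp hy hyZ
  have hy'p := coprime_of_primePow hw H.hp hwp hy'
  have hconj : ∀ g : G, g * z * g⁻¹ ∈ L := by
    intro g
    by_contra hgz
    set c := g * z * g⁻¹ with hc
    have hcX : c ∈ X := Subgroup.subset_closure ⟨g, rfl⟩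
    have hzX : z ∈ X := Subgroup.subset_closure ⟨1, by group⟩
    have hcp : (orderOf c).Coprime p := by
      rwa [show orderOf c = orderOf z from
        orderOf_injective (MulAut.conj g).toMonoidHom (MulEquiv.injective _) z]
    have hcc : ⁅z, c⁆ ∈ center G := by
      have := hcomm 1 g
      rwa [one_mul, inv_one, mul_one] at this
    -- `c⁻¹ (y' c y'⁻¹)` centralises `z`
    set d := c⁻¹ * (y' * c * y'⁻¹) with hd
    have hdX : d ∈ X := by
      refine mul_mem (inv_mem hcX) (Subgroup.subset_closure ⟨y' * g, ?_⟩)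
      rw [hc]; group
    have hzy : y' * z * y'⁻¹ = z := by rw [mem_cz.1 hy'L, mul_inv_cancel_right]
    have hdL : d ∈ L := by
      have h1 : ⁅z, y' * c * y'⁻¹⁆ = ⁅z, c⁆ := by
        have : y' * ⁅z, c⁆ * y'⁻¹ = ⁅z, c⁆ := by
          rw [Subgroup.mem_center_iff.1 hcc y', mul_inv_cancel_right]
        rw [conjugate_commutatorElement, hzy] at this
        exact this
      rw [commutatorElement_def, commutatorElement_def] at h1
      refine mem_cz.2 ?_
      have h2 : z * (y' * c * y'⁻¹) * z⁻¹ * (y' * c * y'⁻¹)⁻¹ = z * c * z⁻¹ * c⁻¹ := h1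
      calc d * z = c⁻¹ * (y' * c * y'⁻¹) * z := by rw [hd]
        _ = c⁻¹ * ((z * c * z⁻¹ * c⁻¹)⁻¹ * (z * (y' * c * y'⁻¹) * z⁻¹ * (y' * c * y'⁻¹)⁻¹)) *
            (y' * c * y'⁻¹) * z := by rw [h2]; group
        _ = z * d := by rw [hd]; group
    obtain ⟨i, hi⟩ := IsPGroup.iff_orderOf.1 hXs ⟨d, hdX⟩
    rw [← Subgroup.orderOf_coe] at hi
    simp only at hi
    have hdy : Commute y' d :=
      (H.cent z d y' hzZ hzp (coprime_of_primePow hs H.hp hsp hi) hdL hy'L)
    have hpow : ∀ j : ℕ, y' ^ j * c * (y' ^ j)⁻¹ = c * d ^ j := by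
      intro j
      induction j with
      | zero => simp
      | succ j ih =>
        calc y' ^ (j + 1) * c * (y' ^ (j + 1))⁻¹ = y' * (y' ^ j * c * (y' ^ j)⁻¹) * y'⁻¹ := by
              rw [pow_succ']; group
          _ = (y' * c * y'⁻¹) * (y' * d ^ j * y'⁻¹) := by rw [ih]; group
          _ = c * d * d ^ j := by
              rw [(hdy.pow_right j).eq, mul_inv_cancel_right, hd]; group
          _ = c * d ^ (j + 1) := by rw [pow_succ']; group
    have hd1 : d = 1 := by
      have h2 := hpow (w ^ b)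
      rw [← hy', pow_orderOf_eq_one, one_mul, inv_one, mul_one, left_eq_mul] at h2
      exact orderOf_eq_one_iff.1 (Nat.eq_one_of_dvd_coprimes
        ((((Nat.coprime_primes hw hs).2 hws).pow b i)) (hy' ▸ orderOf_dvd_of_pow_eq_one h2) (hi ▸ dvd_rfl))
    have hcy : y' ∈ cz c := by
      rw [hd, inv_mul_eq_one, eq_mul_inv_iff_mul_eq] at hd1
      exact mem_cz.2 hd1.symm
    have hcZ : c ∉ center G := fun h => hgz (center_le_cz z h)
    have e1 := H.eq_cz hzZ hzp hy'Z hy'p hy'L
    have e2 := H.eq_cz hcZ hcp hy'Z hy'p hcy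
    exact hgz (by rw [hL, ← e1, e2]; exact self_mem_cz c)
  -- so `cz z` is normal
  haveI hLn : L.Normal := Subgroup.normalizer_eq_top_iff.1
    (top_le_iff.1 fun g _ => H.mem_normalizer_of_conj_mem hzZ hzp (hconj g))
  obtain ⟨t, htS, htL⟩ : ∃ t ∈ (S : Subgroup G), t ∉ L := by
    by_contra hc
    push Not at hc
    refine hv₀ ?_
    rw [H.idx x₀ z hx₀ hx₀p hzZ hzp s hs hsp]
    exact Nat.factorization_eq_zero_of_not_dvd fun h => S.not_dvd_index (h.trans (index_dvd_of_le hc))
  obtain ⟨i, hi⟩ := IsPGroup.iff_orderOf.1 S.isPGroup' ⟨t, htS⟩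
  rw [← Subgroup.orderOf_coe] at hi
  simp only at hi
  have htp := coprime_of_primePow hs H.hp hsp hi
  have htZ : t ∉ center G := fun h => htL (center_le_cz z h)
  obtain ⟨j, u, hu, huo, huZ⟩ := H.exists_noncentral_in htZ htp hw hwp hy hyZ
  have hup := coprime_of_primePow hw H.hp hwp huo
  have huL : u ∈ L := by
    rw [← QuotientGroup.eq_one_iff, ← orderOf_eq_one_iff]
    refine Nat.eq_one_of_dvd_coprimes (a := w ^ j) (b := L.index) ?_
      (huo ▸ orderOf_map_dvd (QuotientGroup.mk' L) u) ?_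
    · refine ((hw.coprime_iff_not_dvd).2 fun h => ?_).pow_left j
      exact (hw.factorization_pos_of_dvd Subgroup.index_ne_zero_of_finite h).ne'
        (huniq z hzZ hzp w hw hwp hws)
    · rw [Subgroup.index_eq_card]; exact orderOf_dvd_natCard _
  exact htL (by rw [hL, ← H.eq_cz hzZ hzp huZ hup huL, H.eq_cz htZ htp huZ hup hu]; exact self_mem_cz t)

/-- Only `p` divides the class size of a non-central `p'`-element. -/
theorem fact_eq_zero (H : Setup p G) {x : G} (hx : x ∉ center G) (hxp : (orderOf x).Coprime p) {s : ℕ}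
    (hs : s.Prime) (hsp : s ≠ p) : (cz x).index.factorization s = 0 := by
  by_contra hv
  haveI := Fact.mk H.hp
  set M := Cfsg.pCore p G
  haveI : M.Normal := Cores.pCore_normal p G
  have hM : IsPGroup p M := Cores.isPGroup_pCore p G
  have H1 := H.quotient_setup hM hs hsp hx hxp hv
  refine H1.false_of_single (Cores.pCore_quotient_self p G) hs hsp
    (H.quotient_noncentral hM hs hsp hx hxp hv)
    (Nat.Coprime.coprime_dvd_left (orderOf_map_dvd (QuotientGroup.mk' M) x) hxp) ?_
  rwa [H.quotient_fact hM hxp hs hsp]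

end Setup

end Cfsg.Agent.TwoPRegSizes
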