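import Cfsg.Agent.Lib.ClassIndex.TwoSizes
import Cfsg.Agent.Lib.Transfer.Residual
import Cfsg.Agent.Lib.Coprime.Generation
import Cfsg.Agent.Lib.PGroup.Basic

/-!
# Groups whose non-central `p`-regular elements have one class size, several primes (namespace
`Cfsg.Agent.TwoPRegSizes`)

* `Setup p G`: the facts extracted from "two sizes": `p'`-elements of the centralizer of a non-central
  `p'`-element are central in it, the `p'`-parts of the class sizes agree, two primes occur
* `eq_cz`, `exists_primary`, `exists_noncentral_in`: first consequences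
* `exists_central_mod`: a suitable element of a Sylow subgroup for a prime dividing the class size
-/

set_option autoImplicit false

open scoped commutatorElement

namespace Cfsg.Agent.TwoPRegSizes

open Subgroup

variable {G : Type*} [Group G] {p : ℕ}

/-- The centralizer of an element. -/
abbrev cz (x : G) : Subgroup G := Subgroup.centralizer ({x} : Set G)

theorem mem_cz {g x : G} : g ∈ cz x ↔ g * x = x * g := Subgroup.mem_centralizer_singleton_iff

theorem self_mem_cz (x : G) : x ∈ cz x := mem_cz.2 rfl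

theorem center_le_cz (x : G) : center G ≤ cz x := fun _ hz =>
  mem_cz.2 (Subgroup.mem_center_iff.1 hz x).symm

theorem cz_conj (g x : G) (h : G) : h ∈ cz (g * x * g⁻¹) ↔ g⁻¹ * h * g ∈ cz x := by
  rw [mem_cz, mem_cz]
  constructor
  · intro e
    calc g⁻¹ * h * g * x = g⁻¹ * (h * (g * x * g⁻¹)) * g := by group
      _ = x * (g⁻¹ * h * g) := by rw [e]; group
  · intro e
    calc h * (g * x * g⁻¹) = g * (g⁻¹ * h * g * x) * g⁻¹ := by group
      _ = g * x * g⁻¹ * h := by rw [e]; group

/-- The `p'`-elements of the centralizers of non-central `p'`-elements are central there, and the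
`p'`-parts of the class sizes of those elements agree. -/
structure Setup (p : ℕ) (G : Type*) [Group G] : Prop where
  hp : p.Prime
  cent : ∀ x y g : G, x ∉ center G → (orderOf x).Coprime p → (orderOf y).Coprime p →
    y ∈ cz x → g ∈ cz x → g * y = y * g
  idx : ∀ x y : G, x ∉ center G → (orderOf x).Coprime p → y ∉ center G → (orderOf y).Coprime p →
    ∀ w : ℕ, w.Prime → w ≠ p → (cz x).index.factorization w = (cz y).index.factorization w
  two : ∃ (q r a b : ℕ) (x y : G), q.Prime ∧ r.Prime ∧ q ≠ p ∧ r ≠ p ∧ q ≠ r ∧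
    orderOf x = q ^ a ∧ orderOf y = r ^ b ∧ x ∉ center G ∧ y ∉ center G

theorem coprime_of_primePow {x : G} {w k : ℕ} (hw : w.Prime) (hp : p.Prime) (hwp : w ≠ p)
    (hx : orderOf x = w ^ k) : (orderOf x).Coprime p := by
  rw [hx]; exact ((Nat.coprime_primes hw hp).2 hwp).pow_left k

variable [Finite G]

namespace Setup

theorem eq_cz (H : Setup p G) {x y : G} (hx : x ∉ center G) (hxp : (orderOf x).Coprime p)
    (hy : y ∉ center G) (hyp : (orderOf y).Coprime p) (hyx : y ∈ cz x) : cz y = cz x := by
  refine le_antisymm (fun g hg => mem_cz.2 ?_) (fun g hg => mem_cz.2 ?_)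
  · exact H.cent y x g hy hyp hxp (mem_cz.2 (mem_cz.1 hyx).symm) hg
  · exact H.cent x y g hx hxp hyp hyx hg

/-- A non-central `p'`-element has a non-central power of prime-power order. -/
theorem exists_primary (H : Setup p G) {x : G} (hx : x ∉ center G) (hxp : (orderOf x).Coprime p) :
    ∃ (w k : ℕ) (y : G), w.Prime ∧ w ≠ p ∧ orderOf y = w ^ k ∧ y ∈ zpowers x ∧ y ∉ center G := by
  by_contra hc
  push Not at hc
  have htop := TwoSizes.eq_top_of_forall_prime_pow ((center G).subgroupOf (zpowers x))
    fun w k y hw hy => by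
      rw [Subgroup.mem_subgroupOf]
      rcases Nat.eq_zero_or_pos k with rfl | hk
      · rw [pow_zero, orderOf_eq_one_iff] at hy
        rw [hy]; exact one_mem _
      · refine hc w k y hw ?_ (by rw [Subgroup.orderOf_coe, hy]) y.2
        rintro rfl
        have h1 : orderOf (y : G) ∣ orderOf x := by
          obtain ⟨j, hj⟩ := Subgroup.mem_zpowers_iff.1 y.2
          rw [orderOf_dvd_iff_pow_eq_one, ← hj, ← zpow_natCast, ← zpow_mul, mul_comm, zpow_mul,
            zpow_natCast, pow_orderOf_eq_one, one_zpow]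
        rw [Subgroup.orderOf_coe, hy] at h1
        exact hw.ne_one (Nat.eq_one_of_dvd_coprimes hxp ((dvd_pow_self w hk.ne').trans h1) dvd_rfl)
  exact hx (Subgroup.mem_subgroupOf.1 (htop ▸ Subgroup.mem_top (⟨x, mem_zpowers x⟩ : zpowers x)))

theorem exists_noncentral (H : Setup p G) : ∃ x : G, x ∉ center G ∧ (orderOf x).Coprime p := by
  obtain ⟨q, r, a, b, x, y, hq, hr, hqp, hrp, hqr, hx, hy, hxZ, hyZ⟩ := H.two
  exact ⟨x, hxZ, coprime_of_primePow hq H.hp hqp hx⟩

theorem fact_card_eq (H : Setup p G) {x y : G} (hx : x ∉ center G) (hxp : (orderOf x).Coprime p)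
    (hy : y ∉ center G) (hyp : (orderOf y).Coprime p) {w : ℕ} (hw : w.Prime) (hwp : w ≠ p) :
    (Nat.card (cz x)).factorization w = (Nat.card (cz y)).factorization w := by
  have h : ∀ K : Subgroup G, (Nat.card K).factorization w + K.index.factorization w =
      (Nat.card G).factorization w := fun K => by
    rw [← K.card_mul_index, Nat.factorization_mul Nat.card_pos.ne' K.index_ne_zero_of_finite,
      Finsupp.add_apply]
  have h1 := h (cz x)
  have h2 := h (cz y)
  have h3 := H.idx x y hx hxp hy hyp w hw hwp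
  omega

/-- The centralizer of a non-central `p'`-element contains non-central `w`-elements if there are any. -/
theorem exists_noncentral_in (H : Setup p G) {x : G} (hx : x ∉ center G)
    (hxp : (orderOf x).Coprime p) {w k : ℕ} (hw : w.Prime) (hwp : w ≠ p) {y : G}
    (hy : orderOf y = w ^ k) (hyZ : y ∉ center G) :
    ∃ (j : ℕ) (y' : G), y' ∈ cz x ∧ orderOf y' = w ^ j ∧ y' ∉ center G := by
  haveI := Fact.mk hw
  by_contra hc
  push Not at hc
  obtain ⟨W⟩ : Nonempty (Sylow w (cz x)) := inferInstance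
  set W' : Subgroup G := (W : Subgroup (cz x)).map (cz x).subtype with hW'def
  have hW' : IsPGroup w W' := W.isPGroup'.map _
  have hW'Z : W' ≤ center G := by
    rintro _ ⟨u, hu, rfl⟩
    obtain ⟨j, hj⟩ := IsPGroup.iff_orderOf.1 W.isPGroup' ⟨u, hu⟩
    exact hc j _ u.2 (by rwa [Subgroup.coe_subtype, Subgroup.orderOf_coe, ← Subgroup.orderOf_mk u hu])
  have hcard : Nat.card W' = w ^ (Nat.card (cz x)).factorization w := by
    rw [hW'def, Subgroup.card_map_of_injective (cz x).subtype_injective, W.card_eq_multiplicity]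
  set Y : Subgroup G := W' ⊔ zpowers y
  have hZy : IsPGroup w ↥(zpowers y) := IsPGroup.of_card (n := k) (by rw [Nat.card_zpowers, hy])
  have hY : IsPGroup w Y := hW'.to_sup_of_normal_left' hZy fun a _ =>
    Subgroup.mem_normalizer_iff.2 fun b => ⟨fun hb => by
      rwa [Subgroup.mem_center_iff.1 (hW'Z hb) a, mul_inv_cancel_right], fun hb => by
      have h1 := Subgroup.mem_center_iff.1 (hW'Z hb) a
      have : b = a * b * a⁻¹ := by
        calc b = a⁻¹ * ((a * b * a⁻¹) * a) := by group
          _ = a⁻¹ * (a * (a * b * a⁻¹)) := by rw [h1]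
          _ = a * b * a⁻¹ := by group
      rwa [this]⟩
  have hYle : Y ≤ cz y := sup_le (hW'Z.trans (center_le_cz y)) (by
    rw [zpowers_le]; exact self_mem_cz y)
  obtain ⟨e, he⟩ := IsPGroup.iff_card.1 hY
  have hdvd : w ^ e ∣ Nat.card (cz y) := he ▸ Subgroup.card_dvd_of_le hYle
  rw [hw.pow_dvd_iff_le_factorization Nat.card_pos.ne',
    ← H.fact_card_eq hx hxp hyZ (coprime_of_primePow hw H.hp hwp hy) hw hwp] at hdvd
  have hle : Y ≤ W' := by
    refine le_of_eq (Subgroup.eq_of_le_of_card_ge le_sup_left ?_).symm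
    rw [hcard, he]
    exact Nat.pow_le_pow_right hw.pos hdvd
  exact hyZ (hW'Z (hle (mem_sup_right (mem_zpowers y))))

/-- A prime dividing the class size: a Sylow subgroup has an element, non-central, whose commutators
with it are central, and whose `w`-th power is central. -/
theorem exists_central_mod (H : Setup p G) {w : ℕ} (hw : w.Prime) (hwp : w ≠ p) {x : G}
    (hx : x ∉ center G) (hxp : (orderOf x).Coprime p) (hv : (cz x).index.factorization w ≠ 0)
    (S : Sylow w G) :
    ∃ z ∈ (S : Subgroup G), z ∉ center G ∧ z ^ w ∈ center G ∧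
      ∀ g ∈ (S : Subgroup G), g * z * g⁻¹ * z⁻¹ ∈ center G := by
  haveI := Fact.mk hw
  have hnd : ∀ z : G, z ∉ center G → (orderOf z).Coprime p → ¬ (S : Subgroup G) ≤ cz z := by
    intro z hz hzp hle
    apply hv
    rw [H.idx x z hx hxp hz hzp w hw hwp]
    exact Nat.factorization_eq_zero_of_not_dvd fun h => S.not_dvd_index (h.trans (index_dvd_of_le hle))
  have hcop : ∀ z ∈ (S : Subgroup G), (orderOf z).Coprime p := by
    intro z hz
    obtain ⟨j, hj⟩ := IsPGroup.iff_orderOf.1 S.isPGroup' ⟨z, hz⟩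
    exact coprime_of_primePow hw H.hp hwp (by rwa [← Subgroup.orderOf_coe] at hj)
  set K : Subgroup (S : Subgroup G) := (center G).subgroupOf (S : Subgroup G)
  have hZS : center (S : Subgroup G) ≤ K := by
    intro z hz
    rw [Subgroup.mem_subgroupOf]
    by_contra hzZ
    exact hnd z hzZ (hcop _ z.2) fun g hg => mem_cz.2
      (congrArg Subtype.val (Subgroup.mem_center_iff.1 hz ⟨g, hg⟩))
  haveI : K.Normal := (inferInstance : (center G).Normal).subgroupOf _
  have hKtop : K ≠ ⊤ := by
    intro h
    rw [Subgroup.subgroupOf_eq_top] at h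
    obtain ⟨z, hz, hzp⟩ := H.exists_noncentral
    exact hnd z hz hzp (h.trans (center_le_cz z))
  haveI : Nontrivial ((S : Subgroup G) ⧸ K) := QuotientGroup.nontrivial_iff.2 hKtop
  have hQ : IsPGroup w ((S : Subgroup G) ⧸ K) := S.isPGroup'.to_quotient K
  obtain ⟨c, -, hc, hco⟩ := PGroup.exists_central_order_p hQ (N := ⊤) top_ne_bot
  obtain ⟨z, rfl⟩ := QuotientGroup.mk'_surjective K c
  refine ⟨z, z.2, fun hzZ => ?_, ?_, fun g hg => ?_⟩
  · rw [QuotientGroup.mk'_apply, (QuotientGroup.eq_one_iff z).2 (Subgroup.mem_subgroupOf.2 hzZ : z ∈ K),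
      orderOf_one] at hco
    exact hw.ne_one hco.symm
  · have : z ^ w ∈ K := by
      rw [← QuotientGroup.eq_one_iff, QuotientGroup.mk_pow]
      exact orderOf_dvd_iff_pow_eq_one.1 (dvd_of_eq hco)
    exact Subgroup.mem_subgroupOf.1 this
  · have h1 : (⟨g, hg⟩ * z * (⟨g, hg⟩ : (S : Subgroup G))⁻¹ * z⁻¹) ∈ K := by
      rw [← QuotientGroup.eq_one_iff]
      have := Subgroup.mem_center_iff.1 hc (⟨g, hg⟩ : (S : Subgroup G))
      simp only [QuotientGroup.mk'_apply] at this
      simp only [QuotientGroup.mk_mul, QuotientGroup.mk_inv, this]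
      group
    exact Subgroup.mem_subgroupOf.1 h1

/-- The `p'`-elements of `cz x` as a subgroup, for `x` non-central of order prime to `p`. -/
def regPart (H : Setup p G) {x : G} (hx : x ∉ center G) (hxp : (orderOf x).Coprime p) :
    Subgroup G where
  carrier := {v | v ∈ cz x ∧ (orderOf v).Coprime p}
  one_mem' := ⟨one_mem _, by rw [orderOf_one]; exact Nat.coprime_one_left p⟩
  mul_mem' := by
    rintro a b ⟨ha, hap⟩ ⟨hb, hbp⟩
    refine ⟨mul_mem ha hb, ?_⟩
    have hc : Commute a b := H.cent x b a hx hxp hbp hb ha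
    exact Nat.Coprime.coprime_dvd_left hc.orderOf_mul_dvd_lcm
      (Nat.Coprime.coprime_dvd_left (Nat.lcm_dvd_mul _ _) (hap.mul_left hbp))
  inv_mem' := by
    rintro a ⟨ha, hap⟩
    exact ⟨inv_mem ha, by rwa [orderOf_inv]⟩

theorem regPart_comm (H : Setup p G) {x : G} (hx : x ∉ center G) (hxp : (orderOf x).Coprime p) :
    IsMulCommutative ↥(H.regPart hx hxp) :=
  ⟨⟨fun a b => Subtype.ext (H.cent x b a hx hxp b.2.2 b.2.1 a.2.1)⟩⟩

/-- Conjugation preserves `cz x` if it moves `x` to an element of `cz x`. -/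
theorem mem_normalizer_of_conj_mem (H : Setup p G) {x g : G} (hx : x ∉ center G)
    (hxp : (orderOf x).Coprime p) (hg : g * x * g⁻¹ ∈ cz x) :
    g ∈ Subgroup.normalizer (cz x : Set G) := by
  have hx' : g * x * g⁻¹ ∉ center G := fun h => hx (by
    simpa [mul_assoc] using (inferInstance : (center G).Normal).conj_mem _ h g⁻¹)
  have ho : orderOf (g * x * g⁻¹) = orderOf x := orderOf_injective (MulAut.conj g).toMonoidHom
    (MulEquiv.injective _) x
  have he := H.eq_cz hx hxp hx' (by rwa [ho]) hg
  rw [Subgroup.mem_normalizer_iff]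
  intro h
  conv_rhs => rw [← he, cz_conj]
  rw [show g⁻¹ * (g * h * g⁻¹) * g = h by group]

theorem regPart_conj (H : Setup p G) {x : G} (hx : x ∉ center G) (hxp : (orderOf x).Coprime p)
    {g : G} (hg : g ∈ Subgroup.normalizer (cz x : Set G)) :
    g ∈ Subgroup.normalizer (H.regPart hx hxp : Set G) := by
  rw [Subgroup.mem_normalizer_iff]
  intro v
  show v ∈ cz x ∧ _ ↔ g * v * g⁻¹ ∈ cz x ∧ _
  rw [← Subgroup.mem_normalizer_iff.1 hg v,
    show orderOf (g * v * g⁻¹) = orderOf v from
      orderOf_injective (MulAut.conj g).toMonoidHom (MulEquiv.injective _) v]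

/-- A `p'`-element of `cz x` commuting with an element outside `cz x` is central. -/
theorem mem_center_of_commute (H : Setup p G) {x v e : G} (hx : x ∉ center G)
    (hxp : (orderOf x).Coprime p) (hv : v ∈ cz x) (hvp : (orderOf v).Coprime p) (he : e ∉ cz x)
    (hev : e * v = v * e) : v ∈ center G := by
  by_contra hvZ
  exact he (H.eq_cz hx hxp hvZ hvp hv ▸ mem_cz.2 hev)

end Setup

end Cfsg.Agent.TwoPRegSizes
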