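import Cfsg.Agent.Lib.TwoPRegSizes.Basic
import Cfsg.Agent.Lib.Isolated.RankOne
import Cfsg.Agent.Lib.OddPrime.Basic

/-!
# At most one prime besides `p` divides the common class size (namespace `Cfsg.Agent.TwoPRegSizes`)

* `exists_dependent`: two commuting elements of prime order modulo `cz x` are dependent
* `fact_eq_one`: a prime `≠ p` dividing the class size divides it exactly once
* `fpf`, `no_invariant_prime`: fixed points modulo the centre
* `no_normal_prime`, `exists_normal_prime`, `unique_prime`: the conclusion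
-/

set_option autoImplicit false
set_option linter.unusedSectionVars false

open scoped commutatorElement IsMulCommutative

namespace Cfsg.Agent.TwoPRegSizes

open Subgroup

variable {G : Type*} [Group G] [Finite G] {p : ℕ}

namespace Setup

variable {x : G}

/-- Some non-central element of `cz x` has prime power order prime to `w`. -/
theorem exists_coprime_in (H : Setup p G) (hx : x ∉ center G) (hxp : (orderOf x).Coprime p) {w : ℕ}
    (hw : w.Prime) :
    ∃ v : G, v ∈ cz x ∧ (orderOf v).Coprime p ∧ (orderOf v).Coprime w ∧ v ∉ center G := by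
  obtain ⟨q, r, a, b, y, z, hq, hr, hqp, hrp, hqr, hy, hz, hyZ, hzZ⟩ := H.two
  by_cases hqw : q = w
  · obtain ⟨j, v, hv, hvo, hvZ⟩ := H.exists_noncentral_in hx hxp hr hrp hz hzZ
    exact ⟨v, hv, coprime_of_primePow hr H.hp hrp hvo,
      coprime_of_primePow hr hw (fun h => hqr (hqw.trans h.symm)) hvo, hvZ⟩
  · obtain ⟨j, v, hv, hvo, hvZ⟩ := H.exists_noncentral_in hx hxp hq hqp hy hyZ
    exact ⟨v, hv, coprime_of_primePow hq H.hp hqp hvo, coprime_of_primePow hq hw hqw hvo, hvZ⟩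

/-- Two elements normalising `cz x`, of prime order and commuting modulo it, are dependent. -/
theorem exists_dependent (H : Setup p G) (hx : x ∉ center G) (hxp : (orderOf x).Coprime p) {w : ℕ}
    (hw : w.Prime) {a b : G} (ha : a ∈ Subgroup.normalizer (cz x : Set G))
    (hb : b ∈ Subgroup.normalizer (cz x : Set G)) (haw : a ^ w ∈ cz x) (hbw : b ^ w ∈ cz x)
    (hab : a * b * a⁻¹ * b⁻¹ ∈ cz x) :
    ∃ i j : ℕ, ¬ (w ∣ i ∧ w ∣ j) ∧ a ^ i * b ^ j ∈ cz x := by
  by_contra hc
  push Not at hc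
  obtain ⟨v, hv, hvp, hvw, hvZ⟩ := H.exists_coprime_in hx hxp hw
  set R := H.regPart hx hxp with hR
  haveI := H.regPart_comm hx hxp
  let ψ := R.normalizerMonoidHom
  have hker : ∀ (g : Subgroup.normalizer (R : Set G)), (g : G) ∈ cz x → ψ g = 1 := by
    intro g hg
    ext u
    show (g : G) * (u : G) * (g : G)⁻¹ = u
    rw [H.cent x u g hx hxp u.2.2 u.2.1 hg, mul_inv_cancel_right]
  let a' : Subgroup.normalizer (R : Set G) := ⟨a, H.regPart_conj hx hxp ha⟩
  let b' : Subgroup.normalizer (R : Set G) := ⟨b, H.regPart_conj hx hxp hb⟩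
  have hcomm : Commute (ψ a') (ψ b') := by
    have h1 : ψ (a' * b' * a'⁻¹ * b'⁻¹) = 1 := hker _ hab
    rw [map_mul, map_mul, map_mul, map_inv, map_inv, mul_inv_eq_one, mul_inv_eq_iff_eq_mul] at h1
    exact h1
  have hs : ψ a' ^ w = 1 := by rw [← map_pow]; exact hker _ haw
  have ht : ψ b' ^ w = 1 := by rw [← map_pow]; exact hker _ hbw
  have key := Coprime.pow_mem_of_pair_aut (ψ a') (ψ b') hcomm hw hs ht ((center G).subgroupOf R)
    (fun i j hij u hu => by
      rw [← map_pow, ← map_pow, ← map_mul] at hu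
      have h2 : a ^ i * b ^ j * (u : G) * (a ^ i * b ^ j)⁻¹ = u := congrArg Subtype.val hu
      rw [Subgroup.mem_subgroupOf]
      exact H.mem_center_of_commute hx hxp u.2.1 u.2.2 (hc i j fun h h' => hij ⟨h, h'⟩)
        (mul_inv_eq_iff_eq_mul.1 h2))
    ⟨v, hv, hvp⟩
  rw [Subgroup.mem_subgroupOf] at key
  exact hvZ (Coprime.mem_of_pow_mem hvw key)

/-- With `b ∉ cz x`, the element `a` is a power of `b` modulo `cz x`. -/
theorem exists_pow_mem (H : Setup p G) (hx : x ∉ center G) (hxp : (orderOf x).Coprime p) {w : ℕ}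
    (hw : w.Prime) {a b : G} (ha : a ∈ Subgroup.normalizer (cz x : Set G))
    (hb : b ∈ Subgroup.normalizer (cz x : Set G)) (haw : a ^ w ∈ cz x) (hbw : b ^ w ∈ cz x)
    (hab : a * b * a⁻¹ * b⁻¹ ∈ cz x) (hbL : b ∉ cz x) :
    ∃ j : ℕ, a * b ^ j ∈ cz x := by
  obtain ⟨i, j, hij, hmem⟩ := H.exists_dependent hx hxp hw ha hb haw hbw hab
  set N := Subgroup.normalizer (cz x : Set G)
  let K := (cz x).subgroupOf N
  haveI : K.Normal := Subgroup.normal_in_normalizer
  set π := QuotientGroup.mk' K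
  have hπ : ∀ g : N, π g = 1 ↔ (g : G) ∈ cz x := fun g => by
    rw [QuotientGroup.mk'_apply, QuotientGroup.eq_one_iff, Subgroup.mem_subgroupOf]
  have hA : π ⟨a, ha⟩ ^ w = 1 := by rw [← map_pow, hπ]; exact haw
  have hB : π ⟨b, hb⟩ ^ w = 1 := by rw [← map_pow, hπ]; exact hbw
  have hAB : π ⟨a, ha⟩ ^ i * π ⟨b, hb⟩ ^ j = 1 := by
    rw [← map_pow, ← map_pow, ← map_mul, hπ]; exact hmem
  have hwi : ¬ w ∣ i := by
    intro hwi
    obtain ⟨c, rfl⟩ := hwi
    rw [pow_mul, hA, one_pow, one_mul] at hAB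
    have hBo : orderOf (π ⟨b, hb⟩) = w :=
      ((hw.eq_one_or_self_of_dvd _ (orderOf_dvd_of_pow_eq_one hB)).resolve_left fun h => hbL <| by
        rw [orderOf_eq_one_iff, hπ] at h; exact h)
    exact hij ⟨dvd_mul_right w c, hBo ▸ orderOf_dvd_of_pow_eq_one hAB⟩
  obtain ⟨e, -, he⟩ := Nat.exists_mul_mod_eq_one_of_coprime ((hw.coprime_iff_not_dvd.2 hwi).symm)
    hw.one_lt
  refine ⟨j * e, ?_⟩
  have hAe : π ⟨a, ha⟩ ^ (i * e) = π ⟨a, ha⟩ := by
    rw [← Nat.mod_add_div (i * e) w, he, pow_add, pow_mul, hA, one_pow, mul_one, pow_one]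
  have : π (⟨a, ha⟩ * ⟨b, hb⟩ ^ (j * e)) = 1 := by
    rw [map_mul, map_pow, ← hAe, pow_mul, pow_mul]
    rw [eq_inv_of_mul_eq_one_left hAB]
    simp
  exact (hπ _).1 this

/-- A prime `≠ p` dividing the class size divides it exactly once. -/
theorem fact_eq_one (H : Setup p G) {w : ℕ} (hw : w.Prime) (hwp : w ≠ p) (hx : x ∉ center G)
    (hxp : (orderOf x).Coprime p) (hv : (cz x).index.factorization w ≠ 0) :
    (cz x).index.factorization w = 1 := by
  haveI := Fact.mk hw
  obtain ⟨S⟩ : Nonempty (Sylow w G) := inferInstance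
  obtain ⟨z, hzS, hzZ, hzw, hzc⟩ := H.exists_central_mod hw hwp hx hxp hv S
  obtain ⟨k, hk⟩ := IsPGroup.iff_orderOf.1 S.isPGroup' ⟨z, hzS⟩
  rw [← Subgroup.orderOf_coe] at hk
  have hzp := coprime_of_primePow hw H.hp hwp hk
  rw [H.idx x z hx hxp hzZ hzp w hw hwp] at hv ⊢
  set L := cz z
  have hconj : ∀ g ∈ (S : Subgroup G), g * z * g⁻¹ ∈ L := by
    intro g hg
    rw [show g * z * g⁻¹ = (g * z * g⁻¹ * z⁻¹) * z by group]
    exact mul_mem (center_le_cz z (hzc g hg)) (self_mem_cz z)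
  have hSN : (S : Subgroup G) ≤ Subgroup.normalizer (L : Set G) :=
    fun g hg => H.mem_normalizer_of_conj_mem hzZ hzp (hconj g hg)
  -- conjugation by an element of `S` translates `z` by a central element
  have hpow : ∀ g ∈ (S : Subgroup G), g ^ w ∈ L := by
    intro g hg
    set c := g * z * g⁻¹ * z⁻¹ with hc
    have hcZ := hzc g hg
    have hgc : ∀ n : ℕ, g ^ n * z * (g ^ n)⁻¹ = c ^ n * z := by
      intro n
      induction n with
      | zero => simp
      | succ n ih =>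
        calc g ^ (n + 1) * z * (g ^ (n + 1))⁻¹ = g * (g ^ n * z * (g ^ n)⁻¹) * g⁻¹ := by
              rw [pow_succ']; group
          _ = g * (c ^ n * z) * g⁻¹ := by rw [ih]
          _ = (g * c ^ n) * z * g⁻¹ := by group
          _ = (c ^ n * g) * z * g⁻¹ := by rw [Subgroup.mem_center_iff.1 (pow_mem hcZ n) g]
          _ = c ^ (n + 1) * z := by rw [hc, pow_succ]; group
    have hcw : c ^ w = 1 := by
      have hcomm : Commute c z := (Subgroup.mem_center_iff.1 hcZ z).symm
      have h1 : (g * z * g⁻¹) ^ w = z ^ w := by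
        rw [conj_pow, Subgroup.mem_center_iff.1 hzw g, mul_inv_cancel_right]
      rw [show g * z * g⁻¹ = c * z by rw [hc]; group, hcomm.mul_pow] at h1
      exact mul_eq_right.1 h1
    have := hgc w
    rw [hcw, one_mul, mul_inv_eq_iff_eq_mul] at this
    exact mem_cz.2 this
  have hcom : ∀ g ∈ (S : Subgroup G), ∀ h ∈ (S : Subgroup G), g * h * g⁻¹ * h⁻¹ ∈ L := by
    intro g hg h hh
    obtain ⟨c, hcZ, h1⟩ : ∃ c ∈ center G, g * z * g⁻¹ = c * z := ⟨_, hzc g hg, by group⟩
    obtain ⟨d, hdZ, h2⟩ : ∃ d ∈ center G, h * z * h⁻¹ = d * z := ⟨_, hzc h hh, by group⟩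
    have hc := Subgroup.mem_center_iff.1 hcZ
    have hd := Subgroup.mem_center_iff.1 hdZ
    have e1 : g * h * z * (g * h)⁻¹ = d * (c * z) := by
      calc g * h * z * (g * h)⁻¹ = g * (h * z * h⁻¹) * g⁻¹ := by group
        _ = (g * d) * z * g⁻¹ := by rw [h2]; group
        _ = d * (g * z * g⁻¹) := by rw [hd g]; group
        _ = _ := by rw [h1]
    have e2 : h * g * z * (h * g)⁻¹ = c * (d * z) := by
      calc h * g * z * (h * g)⁻¹ = h * (g * z * g⁻¹) * h⁻¹ := by group
        _ = (h * c) * z * h⁻¹ := by rw [h1]; group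
        _ = c * (h * z * h⁻¹) := by rw [hc h]; group
        _ = _ := by rw [h2]
    have e3 : g * h * z * (g * h)⁻¹ = h * g * z * (h * g)⁻¹ := by
      rw [e1, e2, ← mul_assoc, ← mul_assoc, hc d]
    refine mem_cz.2 ?_
    have h3 : (h * g)⁻¹ * (g * h) ∈ L := mem_cz.2 <| by
      calc (h * g)⁻¹ * (g * h) * z = (h * g)⁻¹ * (g * h * z * (g * h)⁻¹) * (g * h) := by group
        _ = z * ((h * g)⁻¹ * (g * h)) := by rw [e3]; group
    have h4 : (h * g) * ((h * g)⁻¹ * (g * h)) * (h * g)⁻¹ ∈ L :=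
      (Subgroup.mem_normalizer_iff.1 (hSN (mul_mem hh hg)) _).1 h3
    have := mem_cz.1 h4
    calc g * h * g⁻¹ * h⁻¹ * z = (h * g) * ((h * g)⁻¹ * (g * h)) * (h * g)⁻¹ * z := by group
      _ = z * ((h * g) * ((h * g)⁻¹ * (g * h)) * (h * g)⁻¹) := this
      _ = z * (g * h * g⁻¹ * h⁻¹) := by group
  obtain ⟨b, hbS, hbL⟩ : ∃ b ∈ (S : Subgroup G), b ∉ L := by
    by_contra hc
    push Not at hc
    exact hv (Nat.factorization_eq_zero_of_not_dvd fun h => S.not_dvd_index (h.trans (index_dvd_of_le hc)))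
  set K := L.subgroupOf (S : Subgroup G)
  haveI : K.Normal := Subgroup.normal_subgroupOf_of_le_normalizer hSN
  have hgen : ∀ q : (S : Subgroup G) ⧸ K, q ∈ zpowers ((⟨b, hbS⟩ : (S : Subgroup G)) : (S : Subgroup G) ⧸ K) := by
    intro q
    obtain ⟨⟨a, haS⟩, rfl⟩ := QuotientGroup.mk_surjective q
    obtain ⟨j, hj⟩ := H.exists_pow_mem hzZ hzp hw (hSN haS) (hSN hbS) (hpow a haS) (hpow b hbS)
      (hcom a haS b hbS) hbL
    have h1 : ((⟨a, haS⟩ * ⟨b, hbS⟩ ^ j : (S : Subgroup G)) : (S : Subgroup G) ⧸ K) = 1 :=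
      (QuotientGroup.eq_one_iff _).2 (Subgroup.mem_subgroupOf.2 hj)
    rw [QuotientGroup.mk_mul, QuotientGroup.mk_pow, mul_eq_one_iff_eq_inv] at h1
    rw [h1]
    exact inv_mem (npow_mem_zpowers _ _)
  have hidx : K.index ∣ w := by
    rw [Subgroup.index_eq_card, ← orderOf_eq_card_of_forall_mem_zpowers hgen]
    refine orderOf_dvd_of_pow_eq_one ?_
    rw [← QuotientGroup.mk_pow, QuotientGroup.eq_one_iff]
    exact Subgroup.mem_subgroupOf.2 (hpow b hbS)
  have hdvd : L.index ∣ (S : Subgroup G).index * w := by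
    have h1 := Subgroup.relIndex_mul_index (inf_le_right : L ⊓ (S : Subgroup G) ≤ S)
    rw [Subgroup.inf_relIndex_right] at h1
    refine (Subgroup.index_dvd_of_le (inf_le_left : L ⊓ (S : Subgroup G) ≤ L)).trans ?_
    rw [← h1, mul_comm]
    exact mul_dvd_mul_left _ hidx
  have hle := (Nat.factorization_le_iff_dvd L.index_ne_zero_of_finite
    (mul_ne_zero (S : Subgroup G).index_ne_zero_of_finite hw.ne_zero)).2 hdvd w
  rw [Nat.factorization_mul (S : Subgroup G).index_ne_zero_of_finite hw.ne_zero, Finsupp.add_apply,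
    Nat.factorization_eq_zero_of_not_dvd S.not_dvd_index, hw.factorization_self, zero_add] at hle
  omega

/-- Fixed points modulo the centre of elements acting with order prime to `w`. -/
theorem fpf (H : Setup p G) (hx : x ∉ center G) (hxp : (orderOf x).Coprime p) {w m k : ℕ}
    (hw : w.Prime) (hwp : w ≠ p) {n a : G} (ha : a ∈ cz x) (hao : orderOf a = w ^ m)
    (haZ : a ∉ center G) (hnk : n ^ k ∈ cz x) (hk : k.Coprime w)
    (hna : n * a * n⁻¹ * a⁻¹ ∈ center G) : n ∈ cz x := by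
  have hap := coprime_of_primePow hw H.hp hwp hao
  set c := n * a * n⁻¹ * a⁻¹ with hc
  have hcc := Subgroup.mem_center_iff.1 hna
  have h1 : ∀ i : ℕ, n ^ i * a * (n ^ i)⁻¹ = c ^ i * a := by
    intro i
    induction i with
    | zero => simp
    | succ i ih =>
      calc n ^ (i + 1) * a * (n ^ (i + 1))⁻¹ = n * (n ^ i * a * (n ^ i)⁻¹) * n⁻¹ := by
            rw [pow_succ']; group
        _ = (n * c ^ i) * a * n⁻¹ := by rw [ih]; group
        _ = (c ^ i * n) * a * n⁻¹ := by rw [Subgroup.mem_center_iff.1 (pow_mem hna i) n]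
        _ = c ^ (i + 1) * a := by rw [hc, pow_succ]; group
  have hk1 : c ^ k = 1 := by
    have := h1 k
    rw [← H.eq_cz hx hxp haZ hap ha] at hnk
    rw [mem_cz.1 hnk, mul_inv_cancel_right] at this
    exact mul_eq_right.1 this.symm
  have hw1 : c ^ (w ^ m) = 1 := by
    have h2 : (n * a * n⁻¹) ^ (w ^ m) = 1 := by rw [conj_pow, ← hao, pow_orderOf_eq_one]; group
    rw [show n * a * n⁻¹ = c * a by rw [hc]; group, (Commute.symm (hcc a) : Commute c a).mul_pow,
      ← hao, pow_orderOf_eq_one, mul_one] at h2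
    rw [← hao]; exact h2
  have hc1 : c = 1 := orderOf_eq_one_iff.1 (Nat.eq_one_of_dvd_coprimes (hk.pow_right m)
    (orderOf_dvd_of_pow_eq_one hk1) (orderOf_dvd_of_pow_eq_one hw1))
  rw [← H.eq_cz hx hxp haZ hap ha, mem_cz]
  rw [hc, mul_inv_eq_one, mul_inv_eq_iff_eq_mul] at hc1
  exact hc1

/-- For a prime dividing the class size, an element of the normaliser of `cz x` outside it commutes
modulo the centre with a non-central element of `cz x`. -/
theorem exists_action (H : Setup p G) (hx : x ∉ center G) (hxp : (orderOf x).Coprime p) {w : ℕ}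
    (hw : w.Prime) (hwp : w ≠ p) (hv : (cz x).index.factorization w ≠ 0) :
    ∃ t a : G, ∃ m : ℕ, t ∈ Subgroup.normalizer (cz x : Set G) ∧ t ∉ cz x ∧ t ^ w ∈ cz x ∧
      a ∈ cz x ∧ orderOf a = w ^ m ∧ a ∉ center G ∧ t * a * t⁻¹ * a⁻¹ ∈ center G := by
  haveI := Fact.mk hw
  set L := cz x
  obtain ⟨S0⟩ : Nonempty (Sylow w G) := inferInstance
  obtain ⟨z, hzS, hzZ, -, -⟩ := H.exists_central_mod hw hwp hx hxp hv S0
  obtain ⟨k, hk⟩ := IsPGroup.iff_orderOf.1 S0.isPGroup' ⟨z, hzS⟩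
  rw [← Subgroup.orderOf_coe] at hk
  obtain ⟨j, a0, ha0, ha0o, ha0Z⟩ := H.exists_noncentral_in hx hxp hw hwp hk hzZ
  have hza : IsPGroup w ↥(zpowers (⟨a0, ha0⟩ : L)) :=
    IsPGroup.of_card (n := j) (by rw [Nat.card_zpowers, Subgroup.orderOf_mk, ha0o])
  obtain ⟨W, hW⟩ := hza.exists_le_sylow
  set A : Subgroup G := (W : Subgroup L).map L.subtype with hA
  have hAL : A ≤ L := Subgroup.map_subtype_le _
  have haA : a0 ∈ A := ⟨⟨a0, ha0⟩, hW (mem_zpowers _), rfl⟩
  have hAw : IsPGroup w A := W.isPGroup'.map _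
  obtain ⟨S, hS⟩ := hAw.exists_le_sylow
  have hAS : L ⊓ (S : Subgroup G) = A := by
    refine le_antisymm ?_ (le_inf hAL hS)
    intro g hg
    have h1 : (W : Subgroup L) = ((S : Subgroup G)).subgroupOf L :=
      (W.3 (S.isPGroup'.comap_of_injective L.subtype L.subtype_injective)
        fun u hu => Subgroup.mem_subgroupOf.2 (hS ⟨u, hu, rfl⟩)).symm
    exact ⟨⟨g, hg.1⟩, h1.ge (Subgroup.mem_subgroupOf.2 hg.2), rfl⟩
  have hrel : A.relIndex (S : Subgroup G) = w := by
    have h1 : Nat.card A = w ^ (Nat.card L).factorization w := by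
      rw [hA, Subgroup.card_map_of_injective L.subtype_injective, W.card_eq_multiplicity]
    have h2 : (Nat.card G).factorization w = (Nat.card L).factorization w + 1 := by
      rw [← L.card_mul_index, Nat.factorization_mul Nat.card_pos.ne' L.index_ne_zero_of_finite,
        Finsupp.add_apply, H.fact_eq_one hw hwp hx hxp hv]
    have h3 : (A.subgroupOf (S : Subgroup G)).index * Nat.card A = Nat.card (S : Subgroup G) := by
      rw [← Nat.card_congr (Subgroup.subgroupOfEquivOfLe hS).toEquiv, Subgroup.index_mul_card]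
    rw [S.card_eq_multiplicity, h2, h1, pow_succ'] at h3
    exact Nat.eq_of_mul_eq_mul_right (pow_pos hw.pos _) h3
  haveI hAn : (A.subgroupOf (S : Subgroup G)).Normal := by
    obtain ⟨e, he⟩ := IsPGroup.iff_card.1 S.isPGroup'
    have he0 : e ≠ 0 := by
      rintro rfl
      have := Subgroup.relIndex_dvd_card (H := A) (K := (S : Subgroup G))
      rw [hrel, he, pow_zero, Nat.dvd_one] at this
      exact hw.ne_one this
    refine Subgroup.normal_of_index_eq_minFac_card ?_
    show A.relIndex (S : Subgroup G) = _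
    rw [hrel, he, hw.pow_minFac he0]
  have hSN : (S : Subgroup G) ≤ Subgroup.normalizer (L : Set G) := by
    intro g hg
    have hap := coprime_of_primePow hw H.hp hwp ha0o
    have hgA : g * a0 * g⁻¹ ∈ A :=
      Subgroup.mem_subgroupOf.1 (hAn.conj_mem ⟨a0, hS haA⟩ (Subgroup.mem_subgroupOf.2 haA) ⟨g, hg⟩)
    have := H.mem_normalizer_of_conj_mem ha0Z hap ((le_of_eq (H.eq_cz hx hxp ha0Z hap ha0).symm) (hAL hgA))
    rwa [H.eq_cz hx hxp ha0Z hap ha0] at this
  obtain ⟨t, htS, htA⟩ : ∃ t ∈ (S : Subgroup G), t ∉ A := by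
    by_contra hc
    push Not at hc
    rw [Subgroup.relIndex_eq_one.2 hc] at hrel
    exact hw.ne_one hrel.symm
  have htL : t ∉ L := fun h => htA (hAS ▸ Subgroup.mem_inf.2 ⟨h, htS⟩)
  have htw : t ^ w ∈ L := by
    have h1 := Subgroup.pow_index_mem (A.subgroupOf (S : Subgroup G)) ⟨t, htS⟩
    rw [show (A.subgroupOf (S : Subgroup G)).index = w from hrel, Subgroup.mem_subgroupOf] at h1
    exact hAL h1
  -- a fixed point modulo the centre
  set K : Subgroup (S : Subgroup G) := (center G).subgroupOf (S : Subgroup G)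
  haveI : K.Normal := (inferInstance : (center G).Normal).subgroupOf _
  set π := QuotientGroup.mk' K
  haveI : ((A.subgroupOf (S : Subgroup G)).map π).Normal := hAn.map π (QuotientGroup.mk'_surjective K)
  have hne : (A.subgroupOf (S : Subgroup G)).map π ≠ ⊥ := by
    intro h
    have h1 : π ⟨a0, hS haA⟩ = 1 :=
      Subgroup.mem_bot.1 (h ▸ Subgroup.mem_map_of_mem π (Subgroup.mem_subgroupOf.2 haA))
    rw [QuotientGroup.mk'_apply, QuotientGroup.eq_one_iff] at h1
    exact ha0Z (Subgroup.mem_subgroupOf.1 h1)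
  obtain ⟨c, hcA, hcc, hco⟩ := PGroup.exists_central_order_p (S.isPGroup'.to_quotient K) hne
  obtain ⟨a, haA', rfl⟩ := hcA
  obtain ⟨i, hi⟩ := IsPGroup.iff_orderOf.1 hAw ⟨a, haA'⟩
  rw [← Subgroup.orderOf_coe] at hi
  refine ⟨t, a, i, hSN htS, htL, htw, hAL haA', hi, fun haZ => ?_, ?_⟩
  · rw [QuotientGroup.mk'_apply, (QuotientGroup.eq_one_iff a).2 (Subgroup.mem_subgroupOf.2 haZ : a ∈ K),
      orderOf_one] at hco
    exact hw.ne_one hco.symm
  · have h1 : (⟨t, htS⟩ * a * (⟨t, htS⟩ : (S : Subgroup G))⁻¹ * a⁻¹) ∈ K := by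
      rw [← QuotientGroup.eq_one_iff]
      have := Subgroup.mem_center_iff.1 hcc (π ⟨t, htS⟩)
      rw [QuotientGroup.mk'_apply, QuotientGroup.mk'_apply] at this
      simp only [QuotientGroup.mk_mul, QuotientGroup.mk_inv, this]
      group
    exact Subgroup.mem_subgroupOf.1 h1

/-- No element of prime order `w ≠ s` modulo `cz x` is normalised modulo it by an `s`-element
fixing a non-central element modulo the centre. -/
theorem no_invariant_prime (H : Setup p G) (hx : x ∉ center G) (hxp : (orderOf x).Coprime p)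
    {s w m j : ℕ} (hs : s.Prime) (hsp : s ≠ p) (hw : w.Prime) (hws : w ≠ s) {t a n : G}
    (ht : t ∈ Subgroup.normalizer (cz x : Set G)) (htL : t ∉ cz x) (hts : t ^ s ∈ cz x)
    (ha : a ∈ cz x) (hao : orderOf a = s ^ m) (haZ : a ∉ center G)
    (hta : t * a * t⁻¹ * a⁻¹ ∈ center G)
    (hn : n ∈ Subgroup.normalizer (cz x : Set G)) (hnL : n ∉ cz x) (hnw : n ^ w ∈ cz x)
    (hj : t * n * t⁻¹ * (n ^ j)⁻¹ ∈ cz x) : False := by
  haveI := Fact.mk hw
  have hap := coprime_of_primePow hs H.hp hsp hao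
  have hcop : w.Coprime s := (Nat.coprime_primes hw hs).2 hws
  set R := H.regPart hx hxp
  haveI := H.regPart_comm hx hxp
  let ψ := R.normalizerMonoidHom
  have hker : ∀ (g : Subgroup.normalizer (R : Set G)), (g : G) ∈ cz x → ψ g = 1 := by
    intro g hg
    ext u
    show (g : G) * (u : G) * (g : G)⁻¹ = u
    rw [H.cent x u g hx hxp u.2.2 u.2.1 hg, mul_inv_cancel_right]
  let T : Subgroup.normalizer (R : Set G) := ⟨t, H.regPart_conj hx hxp ht⟩
  let N : Subgroup.normalizer (R : Set G) := ⟨n, H.regPart_conj hx hxp hn⟩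
  set α := ψ T with hα
  set β := ψ N with hβ
  have hαs : α ^ s = 1 := by rw [hα, ← map_pow]; exact hker _ hts
  have hβw : β ^ w = 1 := by rw [hβ, ← map_pow]; exact hker _ hnw
  have hαβ : α * β * α⁻¹ = β ^ j := by
    have h1 : ψ (T * N * T⁻¹ * (N ^ j)⁻¹) = 1 := hker _ hj
    rwa [map_mul, map_mul, map_mul, map_inv, map_inv, map_pow, mul_inv_eq_one] at h1
  let u : R := ⟨a, ha, hap⟩
  set Z : Subgroup R := (center G).subgroupOf R
  have hZfix : ∀ (g : Subgroup.normalizer (R : Set G)) (v : R), v ∈ Z → ψ g v = v := by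
    intro g v hv
    refine Subtype.ext ?_
    show (g : G) * (v : G) * (g : G)⁻¹ = v
    rw [Subgroup.mem_center_iff.1 (Subgroup.mem_subgroupOf.1 hv) g, mul_inv_cancel_right]
  -- fixed points of `t` and of `n`
  have hfixt : ∀ v : R, α v = v → (v : G) ∈ center G := fun v hv =>
    H.mem_center_of_commute hx hxp v.2.1 v.2.2 htL (mul_inv_eq_iff_eq_mul.1 (congrArg Subtype.val hv))
  have hfixn : ∀ v : R, β v = v → (v : G) ∈ center G := fun v hv =>
    H.mem_center_of_commute hx hxp v.2.1 v.2.2 hnL (mul_inv_eq_iff_eq_mul.1 (congrArg Subtype.val hv))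
  have hαu : α u * u⁻¹ ∈ Z := Subgroup.mem_subgroupOf.2 hta
  -- the orbit of `u` under `n`
  let σ : ZMod w → R := fun i => (β ^ i.val) u
  have hpow : ∀ i : ℕ, β ^ ((i : ZMod w)).val = β ^ i := fun i => by
    rw [ZMod.val_natCast, ← pow_mod_orderOf β (i % w), ← pow_mod_orderOf β i,
      Nat.mod_mod_of_dvd _ (orderOf_dvd_of_pow_eq_one hβw)]
  have hσt : ∀ i : ZMod w, α (σ i) * (σ ((j : ZMod w) * i))⁻¹ ∈ Z := by
    intro i
    have h1 : α * β ^ i.val = β ^ (j * i.val) * α := by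
      rw [pow_mul, ← hαβ, conj_pow]; group
    have h2 : β ^ ((j : ZMod w) * i).val = β ^ (j * i.val) := by
      rw [← hpow (j * i.val), Nat.cast_mul, ZMod.natCast_val, ZMod.cast_id]
    show α ((β ^ i.val) u) * ((β ^ ((j : ZMod w) * i).val) u)⁻¹ ∈ Z
    rw [h2, ← MulAut.mul_apply, h1, MulAut.mul_apply, ← map_inv, ← map_mul]
    have h3 : (β ^ (j * i.val)) (α u * u⁻¹) = α u * u⁻¹ := by
      rw [hβ, ← map_pow]; exact hZfix _ _ hαu
    rw [h3]; exact hαu
  have hj0 : (j : ZMod w) ≠ 0 := by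
    intro h
    have h1 : β ^ j = 1 := by rw [← hpow j, h, ZMod.val_zero, pow_zero]
    rw [h1, mul_inv_eq_one, mul_eq_left] at hαβ
    exact haZ (hfixn u (by rw [hαβ]; rfl))
  have hord : orderOf β = w := by
    refine (hw.eq_one_or_self_of_dvd _ (orderOf_dvd_of_pow_eq_one hβw)).resolve_left fun h => ?_
    exact haZ (hfixn u (by rw [orderOf_eq_one_iff.1 h]; rfl))
  by_cases hj1 : (j : ZMod w) = 1
  · -- `t` and `n` commute modulo `cz x`
    have hcom : α * β = β * α := by
      have h1 : β ^ j = β := by rw [← hpow j, hj1, ZMod.val_one, pow_one]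
      rw [← mul_inv_eq_iff_eq_mul, hαβ, h1]
    have h2 : α (β u * u⁻¹) = β u * u⁻¹ := by
      set c := α u * u⁻¹
      have hc : β c = c := hZfix _ _ hαu
      have hαu' : α u = c * u := by simp [c]
      rw [map_mul, map_inv, ← MulAut.mul_apply, hcom, MulAut.mul_apply, hαu', map_mul, hc,
        mul_inv_rev, mul_comm c (β u), mul_comm u⁻¹ c⁻¹, mul_assoc, ← mul_assoc c, mul_inv_cancel,
        one_mul]
    exact hnL (H.fpf hx hxp hs hsp ha hao haZ hnw hcop (hfixt _ h2))
  · -- otherwise `u` is a norm modulo the centre, so `t` would centralise it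
    have hjs : (j : ZMod w) ^ s = 1 := by
      have h1 : ∀ i : ℕ, α ^ i * β * (α ^ i)⁻¹ = β ^ (j ^ i) := by
        intro i
        induction i with
        | zero => simp
        | succ i ih =>
          calc α ^ (i + 1) * β * (α ^ (i + 1))⁻¹ = α * (α ^ i * β * (α ^ i)⁻¹) * α⁻¹ := by
                rw [pow_succ']; group
            _ = (α * β * α⁻¹) ^ (j ^ i) := by rw [ih, conj_pow]
            _ = β ^ (j ^ (i + 1)) := by rw [hαβ, ← pow_mul, pow_succ']
      have h2 := h1 s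
      rw [hαs, inv_one, one_mul, mul_one] at h2
      have h3 : j ^ s ≡ 1 [MOD w] :=
        (hord ▸ pow_eq_pow_iff_modEq.1 (h2.symm.trans (pow_one β).symm))
      have := (ZMod.natCast_eq_natCast_iff (j ^ s) 1 w).2 h3
      simpa using this
    let ju : (ZMod w)ˣ := Units.mk0 (j : ZMod w) hj0
    have hjo : orderOf ju = s := by
      refine (hs.eq_one_or_self_of_dvd _ (orderOf_dvd_of_pow_eq_one (Units.ext (by simpa [ju] using hjs)))).resolve_left fun h => hj1 ?_
      rw [orderOf_eq_one_iff] at h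
      exact congrArg Units.val h
    classical
    set J := zpowers ju
    -- product over a transversal
    let v : R := ∏ q : (ZMod w)ˣ ⧸ J, σ ((q.out : (ZMod w)ˣ) : ZMod w)
    let Nv : R := ∏ k ∈ Finset.range s, (α ^ k) v
    have hNfix : α Nv = Nv := by
      simp only [Nv, map_prod]
      have h1 : ∀ k, α ((α ^ k) v) = (α ^ (k + 1)) v := fun k => by rw [pow_succ', MulAut.mul_apply]
      simp_rw [h1]
      have h2 := Finset.prod_range_succ' (fun k => (α ^ k) v) s
      rw [Finset.prod_range_succ, hαs, pow_zero] at h2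
      exact (mul_right_cancel h2).symm
    have hσpow : ∀ (k : ℕ) (i : ZMod w), (α ^ k) (σ i) * (σ ((j : ZMod w) ^ k * i))⁻¹ ∈ Z := by
      intro k
      induction k with
      | zero => intro i; simp [one_mem]
      | succ k ih =>
        intro i
        have h1 := ih i
        have h2 : α ((α ^ k) (σ i) * (σ ((j : ZMod w) ^ k * i))⁻¹) ∈ Z := by
          rw [hα, hZfix _ _ h1]; exact h1
        rw [map_mul, map_inv, ← MulAut.mul_apply, ← pow_succ'] at h2
        have h3 := hσt ((j : ZMod w) ^ k * i)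
        have := mul_mem h2 h3
        rw [mul_assoc, inv_mul_cancel_left, ← mul_assoc, ← pow_succ'] at this
        exact this
    let πZ := QuotientGroup.mk' Z
    have hπσ : ∀ (k : ℕ) (i : ZMod w), πZ ((α ^ k) (σ i)) = πZ (σ ((j : ZMod w) ^ k * i)) := by
      intro k i
      rw [← mul_inv_eq_one, ← map_inv, ← map_mul, QuotientGroup.mk'_apply, QuotientGroup.eq_one_iff]
      exact hσpow k i
    have hprod : πZ Nv = ∏ c : (ZMod w)ˣ, πZ (σ (c : ZMod w)) := by
      simp only [Nv, v, map_prod, hπσ]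
      rw [Finset.prod_comm]
      simp only [Finset.prod_range]
      rw [← Fintype.prod_prod_type' (fun (q : (ZMod w)ˣ ⧸ J) (k : Fin s) =>
        πZ (σ ((j : ZMod w) ^ (k : ℕ) * ((q.out : (ZMod w)ˣ) : ZMod w))))]
      refine Fintype.prod_bijective (fun z : ((ZMod w)ˣ ⧸ J) × Fin s => z.1.out * ju ^ (z.2 : ℕ)) ?_ _ _ ?_
      · refine (Fintype.bijective_iff_surjective_and_card _).2 ⟨fun c => ?_, ?_⟩
        · obtain ⟨e, he⟩ := mem_powers_iff_mem_zpowers.2
            (QuotientGroup.eq.1 (QuotientGroup.out_eq' (c : (ZMod w)ˣ ⧸ J)) : _ ∈ J)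
          refine ⟨(c, ⟨e % s, Nat.mod_lt _ hs.pos⟩), ?_⟩
          simp only at he ⊢
          rw [← hjo, pow_mod_orderOf, he, mul_inv_cancel_left]
        · rw [Fintype.card_prod, Fintype.card_fin, ← Nat.card_eq_fintype_card, ← Nat.card_eq_fintype_card,
            Subgroup.card_eq_card_quotient_mul_card_subgroup J, Nat.card_zpowers, hjo]
      · intro z
        rw [Units.val_mul, Units.val_pow_eq_pow_val, mul_comm]
        rfl
    have hall : πZ u * ∏ c : (ZMod w)ˣ, πZ (σ (c : ZMod w)) = 1 := by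
      have h0 : ∏ i : ZMod w, σ i ∈ Z := by
        refine Subgroup.mem_subgroupOf.2 (hfixn _ ?_)
        rw [map_prod]
        refine Fintype.prod_equiv (Equiv.addRight (1 : ZMod w)) _ _ fun i => ?_
        show β ((β ^ i.val) u) = (β ^ (i + 1).val) u
        rw [← MulAut.mul_apply, ← pow_succ', ← hpow (i.val + 1), Nat.cast_succ, ZMod.natCast_val,
          ZMod.cast_id]
      have h1 : πZ (∏ i : ZMod w, σ i) = 1 := (QuotientGroup.eq_one_iff _).2 h0
      rw [map_prod, ← Finset.mul_prod_erase Finset.univ _ (Finset.mem_univ (0 : ZMod w))] at h1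
      rw [← h1]
      congr 1
      · simp [σ]
      · refine Finset.prod_bij (fun c _ => (c : ZMod w)) ?_ ?_ ?_ (fun c _ => rfl)
        · intro c _; exact Finset.mem_erase.2 ⟨c.ne_zero, Finset.mem_univ _⟩
        · intro c _ d _ h; exact Units.ext h
        · intro i hi; exact ⟨Units.mk0 i (Finset.mem_erase.1 hi).1, Finset.mem_univ _, rfl⟩
    rw [← hprod, ← map_mul, QuotientGroup.mk'_apply, QuotientGroup.eq_one_iff] at hall
    have h1 : α (u * Nv) = u * Nv := by rw [hα]; exact hZfix _ _ hall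
    rw [map_mul, hNfix, mul_left_inj] at h1
    exact haZ (hfixt u h1)

/-- No normal subgroup of prime order modulo `cz x` when two primes divide the class size. -/
theorem no_normal_prime (H : Setup p G) (hx : x ∉ center G) (hxp : (orderOf x).Coprime p)
    {s r : ℕ} (hs : s.Prime) (hsp : s ≠ p) (hr : r.Prime) (hrp : r ≠ p) (hsr : s ≠ r)
    (hvs : (cz x).index.factorization s ≠ 0) (hvr : (cz x).index.factorization r ≠ 0)
    {w : ℕ} (hw : w.Prime) {n : G} (hn : n ∈ Subgroup.normalizer (cz x : Set G)) (hnL : n ∉ cz x)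
    (hnw : n ^ w ∈ cz x)
    (hnorm : ∀ g ∈ Subgroup.normalizer (cz x : Set G), ∃ j : ℕ, g * n * g⁻¹ * (n ^ j)⁻¹ ∈ cz x) :
    False := by
  by_cases hws : w = s
  · obtain ⟨t, a, m, ht, htL, hts, ha, hao, haZ, hta⟩ := H.exists_action hx hxp hr hrp hvr
    obtain ⟨j, hj⟩ := hnorm t ht
    exact H.no_invariant_prime hx hxp hr hrp hw (fun h => hsr (hws.symm.trans h)) ht htL hts ha hao
      haZ hta hn hnL hnw hj
  · obtain ⟨t, a, m, ht, htL, hts, ha, hao, haZ, hta⟩ := H.exists_action hx hxp hs hsp hvs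
    obtain ⟨j, hj⟩ := hnorm t ht
    exact H.no_invariant_prime hx hxp hs hsp hw hws ht htL hts ha hao haZ hta hn hnL hnw hj

/-- The elements of the normaliser of `cz x` centralizing its `s`-elements modulo the centre. -/
def kerMod (H : Setup p G) (x : G) (s : ℕ) : Subgroup ↥(Subgroup.normalizer (cz x : Set G)) where
  carrier := {g | ∀ b ∈ cz x, ∀ k : ℕ, orderOf b = s ^ k →
    (g : G) * b * (g : G)⁻¹ * b⁻¹ ∈ center G}
  one_mem' := by intro b _ k _; simp [one_mem]
  mul_mem' := by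
    intro g h hg hh b hb k hbo
    have e : ((g * h : ↥(Subgroup.normalizer (cz x : Set G))) : G) * b *
        ((g * h : ↥(Subgroup.normalizer (cz x : Set G))) : G)⁻¹ * b⁻¹ =
          ((g : G) * ((h : G) * b * (h : G)⁻¹ * b⁻¹) * (g : G)⁻¹) *
            ((g : G) * b * (g : G)⁻¹ * b⁻¹) := by
      rw [Subgroup.coe_mul]; group
    rw [e]
    exact mul_mem ((inferInstance : (center G).Normal).conj_mem _ (hh b hb k hbo) _) (hg b hb k hbo)
  inv_mem' := by
    intro g hg b hb k hbo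
    have e : ((g⁻¹ : ↥(Subgroup.normalizer (cz x : Set G))) : G) * b *
        ((g⁻¹ : ↥(Subgroup.normalizer (cz x : Set G))) : G)⁻¹ * b⁻¹ =
          (g : G)⁻¹ * ((g : G) * b * (g : G)⁻¹ * b⁻¹)⁻¹ * ((g : G)⁻¹)⁻¹ := by
      rw [Subgroup.coe_inv]; group
    rw [e]
    exact (inferInstance : (center G).Normal).conj_mem _ (inv_mem (hg b hb k hbo)) _

theorem kerMod_normal (H : Setup p G) (x : G) (s : ℕ) : (H.kerMod x s).Normal := by
  refine ⟨fun g hg h b hb k hbo => ?_⟩
  set b' := (h : G)⁻¹ * b * (h : G) with hb'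
  have hb'L : b' ∈ cz x := by
    have := (Subgroup.mem_normalizer_iff.1 (inv_mem h.2) b).1 hb
    simpa [hb'] using this
  have hb'o : orderOf b' = s ^ k := by
    rw [← hbo, hb', show (h : G)⁻¹ * b * (h : G) = (h : G)⁻¹ * b * ((h : G)⁻¹)⁻¹ by group]
    exact orderOf_injective (MulAut.conj (h : G)⁻¹).toMonoidHom (MulEquiv.injective _) b
  have h1 := (inferInstance : (center G).Normal).conj_mem _ (hg b' hb'L k hb'o) (h : G)
  convert h1 using 1
  simp only [hb', Subgroup.coe_mul, Subgroup.coe_inv]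
  group

/-- An involution modulo `cz x` inverts the `s`-elements of `cz x` modulo the centre. -/
theorem inverts (H : Setup p G) (hx : x ∉ center G) (hxp : (orderOf x).Coprime p) {s k : ℕ}
    (hs : s.Prime) (hsp : s ≠ p) {g b : G} (hg : g ∈ Subgroup.normalizer (cz x : Set G))
    (hg2 : g ^ 2 ∈ cz x) (hgL : g ∉ cz x) (hb : b ∈ cz x) (hbo : orderOf b = s ^ k) :
    g * b * g⁻¹ * b ∈ center G := by
  have hbp := coprime_of_primePow hs H.hp hsp hbo
  have hgb : g * b * g⁻¹ ∈ cz x := (Subgroup.mem_normalizer_iff.1 hg b).1 hb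
  have hgbp : (orderOf (g * b * g⁻¹)).Coprime p := by
    rwa [show orderOf (g * b * g⁻¹) = orderOf b from
      orderOf_injective (MulAut.conj g).toMonoidHom (MulEquiv.injective _) b]
  have hcomm := H.cent x b _ hx hxp hbp hb hgb
  have hmem : g * b * g⁻¹ * b ∈ H.regPart hx hxp :=
    mul_mem (show g * b * g⁻¹ ∈ H.regPart hx hxp from ⟨hgb, hgbp⟩) ⟨hb, hbp⟩
  refine H.mem_center_of_commute hx hxp hmem.1 hmem.2 hgL (mul_inv_eq_iff_eq_mul.1 ?_)
  have h2 : g ^ 2 * b * (g ^ 2)⁻¹ = b := by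
    rw [H.cent x b _ hx hxp hbp hb hg2, mul_inv_cancel_right]
  calc g * (g * b * g⁻¹ * b) * g⁻¹ = (g ^ 2 * b * (g ^ 2)⁻¹) * (g * b * g⁻¹) := by rw [sq]; group
    _ = _ := by rw [h2, hcomm]

/-- The normaliser of `cz x` modulo it has a normal subgroup of prime order. -/
theorem exists_normal_prime (H : Setup p G) (hx : x ∉ center G) (hxp : (orderOf x).Coprime p)
    {s : ℕ} (hs : s.Prime) (hsp : s ≠ p) (hs2 : s ≠ 2) (hvs : (cz x).index.factorization s ≠ 0) :
    ∃ (w : ℕ) (n : G), w.Prime ∧ n ∈ Subgroup.normalizer (cz x : Set G) ∧ n ∉ cz x ∧ n ^ w ∈ cz x ∧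
      ∀ g ∈ Subgroup.normalizer (cz x : Set G), ∃ j : ℕ, g * n * g⁻¹ * (n ^ j)⁻¹ ∈ cz x := by
  haveI := Fact.mk hs
  set N := Subgroup.normalizer (cz x : Set G)
  let K := (cz x).subgroupOf N
  haveI : K.Normal := Subgroup.normal_in_normalizer
  set π := QuotientGroup.mk' K
  have hπ : ∀ g : N, π g = 1 ↔ (g : G) ∈ cz x := fun g => by
    rw [QuotientGroup.mk'_apply, QuotientGroup.eq_one_iff, Subgroup.mem_subgroupOf]
  obtain ⟨t, a, m, ht, htL, hts, ha, hao, haZ, hta⟩ := H.exists_action hx hxp hs hsp hvs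
  suffices h : ∃ (w : ℕ) (c : N ⧸ K), w.Prime ∧ orderOf c = w ∧ (zpowers c).Normal by
    obtain ⟨w, c, hw, hc, hcn⟩ := h
    obtain ⟨n, rfl⟩ := QuotientGroup.mk'_surjective K c
    refine ⟨w, n, hw, n.2, fun h => hw.ne_one ?_, ?_, fun g hg => ?_⟩
    · rw [← hc, (hπ n).2 h, orderOf_one]
    · exact (hπ (n ^ w)).1 (by rw [map_pow, ← hc, pow_orderOf_eq_one])
    · obtain ⟨j, hj⟩ := mem_powers_iff_mem_zpowers.2 (hcn.conj_mem _ (mem_zpowers _) (π ⟨g, hg⟩))
      refine ⟨j, (hπ (⟨g, hg⟩ * n * (⟨g, hg⟩ : N)⁻¹ * (n ^ j)⁻¹)).1 ?_⟩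
      simp only at hj
      rw [map_mul, map_mul, map_mul, map_inv, map_inv, map_pow, hj, mul_inv_cancel]
  by_cases heven : 2 ∣ Nat.card (N ⧸ K)
  · haveI := Fact.mk Nat.prime_two
    obtain ⟨i, hi⟩ := exists_prime_orderOf_dvd_card' (G := N ⧸ K) 2 heven
    obtain ⟨n, rfl⟩ := QuotientGroup.mk'_surjective K i
    have hn2 : (n : G) ^ 2 ∈ cz x := (hπ (n ^ 2)).1 (by rw [map_pow, ← hi, pow_orderOf_eq_one])
    have hnL : (n : G) ∉ cz x := fun h => by
      rw [(hπ n).2 h, orderOf_one] at hi; exact absurd hi (by norm_num)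
    by_cases hcen : π n ∈ center (N ⧸ K)
    · refine ⟨2, π n, Nat.prime_two, hi, ⟨fun c hc g => ?_⟩⟩
      obtain ⟨k, rfl⟩ := Subgroup.mem_zpowers_iff.1 hc
      rw [Subgroup.mem_center_iff.1 (zpow_mem hcen k) g, mul_inv_cancel_right]
      exact zpow_mem (mem_zpowers _) k
    -- the kernel on the `s`-elements modulo the centre has order `s` modulo `cz x`
    set F := (H.kerMod x s).map π with hFdef
    haveI hFn : F.Normal := (H.kerMod_normal x s).map π (QuotientGroup.mk'_surjective K)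
    have hFbot : F ≠ ⊥ := by
      intro hF
      refine hcen (Subgroup.mem_center_iff.2 fun q => ?_)
      obtain ⟨g, rfl⟩ := QuotientGroup.mk'_surjective K q
      suffices hk : n⁻¹ * (g * n * g⁻¹) ∈ H.kerMod x s by
        have h1 := Subgroup.mem_bot.1 (hF.le (Subgroup.mem_map_of_mem π hk))
        rw [map_mul, map_inv, map_mul, map_mul, map_inv, inv_mul_eq_one] at h1
        exact (eq_mul_inv_iff_mul_eq.1 h1).symm
      intro b hb k hbo
      set c := ((g * n * g⁻¹ : N) : G) with hc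
      have hc' : c = (g : G) * n * (g : G)⁻¹ := by rw [hc]; rfl
      have hc2 : c ^ 2 ∈ cz x := by
        rw [hc', conj_pow]
        exact (Subgroup.mem_normalizer_iff.1 g.2 _).1 hn2
      have hcL : c ∉ cz x := fun h => hnL ((Subgroup.mem_normalizer_iff.1 g.2 _).2 (hc' ▸ h))
      have hcb : c * b * c⁻¹ ∈ cz x := (Subgroup.mem_normalizer_iff.1 (g * n * g⁻¹ : N).2 b).1 hb
      have hbi : orderOf (c * b * c⁻¹) = s ^ k :=
        hbo ▸ orderOf_injective (MulAut.conj c).toMonoidHom (MulEquiv.injective _) b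
      have h3 := H.inverts hx hxp hs hsp (inv_mem n.2) (by rw [inv_pow]; exact inv_mem hn2)
        (fun h => hnL (by simpa using inv_mem h)) hcb hbi
      have h4 := H.inverts hx hxp hs hsp (g * n * g⁻¹ : N).2 hc2 hcL hb hbo
      have hk' : ((n⁻¹ * (g * n * g⁻¹) : N) : G) = (n : G)⁻¹ * c := rfl
      have e : (n : G)⁻¹ * c * b * ((n : G)⁻¹ * c)⁻¹ * b⁻¹ =
          ((n : G)⁻¹ * (c * b * c⁻¹) * ((n : G)⁻¹)⁻¹ * (c * b * c⁻¹)) * (b * (c * b * c⁻¹))⁻¹ := by
        group
      rw [hk', e]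
      refine mul_mem h3 (inv_mem ?_)
      have h5 := (inferInstance : (center G).Normal).conj_mem _ h4 b
      rwa [show b * (c * b * c⁻¹ * b) * b⁻¹ = b * (c * b * c⁻¹) by group] at h5
    have hFp : IsPGroup s F := by
      refine IsPGroup.iff_orderOf.2 fun q => ?_
      obtain ⟨e, o, ho, hqo⟩ := Nat.exists_eq_pow_mul_and_not_dvd (orderOf_pos q).ne' s hs.ne_one
      refine ⟨e, ?_⟩
      obtain ⟨h, hh, hhq⟩ := F.pow_mem q.2 (s ^ e)
      have hho : (h : G) ^ o ∈ cz x := (hπ (h ^ o)).1 (by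
        rw [map_pow, hhq, ← pow_mul, ← hqo, ← Subgroup.orderOf_coe, pow_orderOf_eq_one])
      have hhL := H.fpf hx hxp hs hsp ha hao haZ hho ((hs.coprime_iff_not_dvd.2 ho).symm)
        (hh a ha m hao)
      refine Nat.dvd_antisymm ?_ (hqo ▸ Dvd.intro o rfl)
      rw [← Subgroup.orderOf_coe]
      exact orderOf_dvd_of_pow_eq_one (hhq.symm.trans ((hπ h).2 hhL))
    obtain ⟨e, he⟩ := IsPGroup.iff_card.1 hFp
    have he0 : e ≠ 0 := fun h => hFbot (Subgroup.card_eq_one.1 (by rw [he, h, pow_zero]))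
    have he1 : e = 1 := by
      have h1 : s ^ e ∣ (cz x).index := by
        refine (he ▸ (Subgroup.card_subgroup_dvd_card F)).trans ?_
        rw [← Subgroup.index_eq_card]
        show (cz x).relIndex N ∣ _
        exact Subgroup.relIndex_dvd_index_of_le Subgroup.le_normalizer
      rw [hs.pow_dvd_iff_le_factorization (cz x).index_ne_zero_of_finite,
        H.fact_eq_one hs hsp hx hxp hvs] at h1
      omega
    rw [he1, pow_one] at he
    obtain ⟨c, hc⟩ := exists_prime_orderOf_dvd_card' (G := F) s (dvd_of_eq he.symm)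
    rw [← Subgroup.orderOf_coe] at hc
    have hcF : zpowers (c : N ⧸ K) = F := Subgroup.eq_of_le_of_card_ge (by rw [zpowers_le]; exact c.2)
      (by rw [he, Nat.card_zpowers, hc])
    exact ⟨s, (c : N ⧸ K), hs, hc, by rw [hcF]; exact hFn⟩
  · -- odd order: all Sylow subgroups are cyclic
    haveI : IsZGroup (N ⧸ K) := ⟨fun w hw W => by
      haveI := Fact.mk hw
      by_cases hW1 : (W : Subgroup (N ⧸ K)) = ⊥
      · rw [hW1]; infer_instance
      have hw2 : w ≠ 2 := by
        rintro rfl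
        haveI : Nontrivial (W : Subgroup (N ⧸ K)) := (Subgroup.nontrivial_iff_ne_bot _).2 hW1
        exact heven ((Isolated.prime_dvd_card W.isPGroup').trans (Subgroup.card_subgroup_dvd_card _))
      obtain ⟨c, ⟨hcW, hcc⟩, hco⟩ := OddPrime.exists_center (p := w) W.isPGroup' hW1
      have hall : ∀ y ∈ (W : Subgroup (N ⧸ K)), y ^ w = 1 → y ∈ zpowers c := by
        intro y hy hyw
        obtain ⟨gy, rfl⟩ := QuotientGroup.mk'_surjective K y
        obtain ⟨gc, rfl⟩ := QuotientGroup.mk'_surjective K c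
        have hcom : π (gy * gc * gy⁻¹ * gc⁻¹) = 1 := by
          have hc2 : π gy * π gc = π gc * π gy := hcc _ hy
          rw [map_mul, map_mul, map_mul, map_inv, map_inv, hc2]; group
        obtain ⟨j, hj⟩ := H.exists_pow_mem hx hxp hw gy.2 gc.2
          ((hπ (gy ^ w)).1 (by rw [map_pow, hyw]))
          ((hπ (gc ^ w)).1 (by rw [map_pow, ← hco, pow_orderOf_eq_one]))
          ((hπ _).1 hcom)
          (fun h => hw.ne_one (by rw [← hco, (hπ gc).2 h, orderOf_one]))
        have h1 : π (gy * gc ^ j) = 1 := (hπ _).2 hj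
        rw [map_mul, map_pow, mul_eq_one_iff_eq_inv] at h1
        rw [h1]
        exact inv_mem (npow_mem_zpowers _ _)
      refine Isolated.isCyclic_of_unique hw2 _ (W : Subgroup (N ⧸ K)) W.isPGroup' le_rfl
        fun u v hu hup hvp => ?_
      have hu1 := hall u u.2 (by rw [← Subgroup.coe_pow, hup]; rfl)
      have hv1 := hall v v.2 (by rw [← Subgroup.coe_pow, hvp]; rfl)
      have hcu : zpowers (u : N ⧸ K) = zpowers c := by
        refine Subgroup.eq_of_le_of_card_ge (by rwa [zpowers_le]) ?_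
        have h1 : (u : N ⧸ K) ≠ 1 := by simpa using hu
        have h2 : (u : N ⧸ K) ^ w = 1 := by rw [← Subgroup.coe_pow, hup]; rfl
        rw [Nat.card_zpowers, Nat.card_zpowers, hco, orderOf_eq_prime h2 h1]
      obtain ⟨e, he⟩ := Subgroup.mem_zpowers_iff.1 (hcu.symm ▸ hv1 : (v : N ⧸ K) ∈ zpowers (u : N ⧸ K))
      exact Subgroup.mem_zpowers_iff.2 ⟨e, Subtype.ext (by rw [Subgroup.coe_zpow, he])⟩⟩
    haveI : Nontrivial (N ⧸ K) := QuotientGroup.nontrivial_iff.2 fun h => htL
      (Subgroup.mem_subgroupOf.1 (h.ge (Subgroup.mem_top (⟨t, ht⟩ : N))))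
    obtain ⟨w, hw, hdvd⟩ := Nat.exists_prime_and_dvd
      (Finite.one_lt_card_iff_nontrivial.2 (inferInstance : Nontrivial (N ⧸ K))).ne'
    by_cases hcom : commutator (N ⧸ K) = ⊥
    · haveI := Fact.mk hw
      obtain ⟨c, hc⟩ := exists_prime_orderOf_dvd_card' (G := N ⧸ K) w hdvd
      refine ⟨w, c, hw, hc, ⟨fun u hu g => ?_⟩⟩
      have h1 : g * u * g⁻¹ * u⁻¹ ∈ commutator (N ⧸ K) :=
        Subgroup.commutator_mem_commutator (Subgroup.mem_top g) (Subgroup.mem_top u)
      rw [hcom, Subgroup.mem_bot, mul_inv_eq_one] at h1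
      rwa [h1]
    · haveI : IsCyclic (commutator (N ⧸ K)) := IsZGroup.isCyclic_commutator (N ⧸ K)
      obtain ⟨w', hw', hdvd'⟩ := Nat.exists_prime_and_dvd
        (fun h => hcom (Subgroup.card_eq_one.1 h) : Nat.card (commutator (N ⧸ K)) ≠ 1)
      haveI := Fact.mk hw'
      obtain ⟨c, hc⟩ := exists_prime_orderOf_dvd_card' (G := commutator (N ⧸ K)) w' hdvd'
      rw [← Subgroup.orderOf_coe] at hc
      refine ⟨w', (c : N ⧸ K), hw', hc, ⟨fun u hu g => ?_⟩⟩
      have heq : zpowers (g * (c : N ⧸ K) * g⁻¹) = zpowers (c : N ⧸ K) := by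
        refine OddPrime.eq_of_card_eq_of_cyclic (S := commutator (N ⧸ K)) ?_ ?_ ?_
        · rw [zpowers_le]; exact (inferInstance : (commutator (N ⧸ K)).Normal).conj_mem _ c.2 g
        · rw [zpowers_le]; exact c.2
        · rw [Nat.card_zpowers, Nat.card_zpowers]
          exact orderOf_injective (MulAut.conj g).toMonoidHom (MulEquiv.injective _) _
      obtain ⟨k, rfl⟩ := Subgroup.mem_zpowers_iff.1 hu
      rw [← conj_zpow]
      exact zpow_mem (heq ▸ mem_zpowers (g * (c : N ⧸ K) * g⁻¹)) k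

/-- At most one prime other than `p` divides the class size. -/
theorem unique_prime (H : Setup p G) (hx : x ∉ center G) (hxp : (orderOf x).Coprime p) {s r : ℕ}
    (hs : s.Prime) (hsp : s ≠ p) (hr : r.Prime) (hrp : r ≠ p)
    (hvs : (cz x).index.factorization s ≠ 0) (hvr : (cz x).index.factorization r ≠ 0) : s = r := by
  by_contra hsr
  by_cases hs2 : s = 2
  · obtain ⟨w, n, hw, hn, hnL, hnw, hnorm⟩ :=
      H.exists_normal_prime hx hxp hr hrp (fun h => hsr (hs2.trans h.symm)) hvr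
    exact H.no_normal_prime hx hxp hs hsp hr hrp hsr hvs hvr hw hn hnL hnw hnorm
  · obtain ⟨w, n, hw, hn, hnL, hnw, hnorm⟩ := H.exists_normal_prime hx hxp hs hsp hs2 hvs
    exact H.no_normal_prime hx hxp hs hsp hr hrp hsr hvs hvr hw hn hnL hnw hnorm

end Setup

end Cfsg.Agent.TwoPRegSizes
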